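import Mathlib
import Cfsg.Agent.H566.BNRgd

/-!
# Groups with at most two orbits on a `p`-group (helper520)

* `lemC` : if `T` has at most two orbits on the nonidentity elements of the `p`-group `X`, every odd prime divisor of
  `p - 1` divides the order of `T`.
-/

set_option autoImplicit false

namespace Cfsg.Agent.H520

open Cfsg.Agent.H566

theorem exists_same {Y : Type*} [Group Y] {T X : Subgroup Y} (h : TwoCls T X) (f : ℕ → Y) (hf : ∀ i, f i ∈ X)
    (hf1 : ∀ i, f i ≠ 1) : ∃ i j, j < i ∧ i ≤ 2 ∧ ∃ b ∈ T, b * f j * b⁻¹ = f i := by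
  obtain ⟨u₀, -, -, u₁, -, -, h2⟩ := h.out
  have key : ∀ (u : Y) (i j : ℕ), (∃ b ∈ T, b * u * b⁻¹ = f i) → (∃ b ∈ T, b * u * b⁻¹ = f j) →
      ∃ b ∈ T, b * f j * b⁻¹ = f i := by
    rintro u i j ⟨b, hb, e⟩ ⟨c, hc, e'⟩
    refine ⟨b * c⁻¹, mul_mem hb (inv_mem hc), ?_⟩
    rw [← e, ← e']
    group
  rcases h2 (f 0) (hf 0) (hf1 0) with h0 | h0 <;> rcases h2 (f 1) (hf 1) (hf1 1) with h1 | h1 <;>
    rcases h2 (f 2) (hf 2) (hf1 2) with h3 | h3
  · exact ⟨1, 0, by omega, by omega, key _ _ _ h1 h0⟩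
  · exact ⟨1, 0, by omega, by omega, key _ _ _ h1 h0⟩
  · exact ⟨2, 0, by omega, by omega, key _ _ _ h3 h0⟩
  · exact ⟨2, 1, by omega, by omega, key _ _ _ h3 h1⟩
  · exact ⟨2, 1, by omega, by omega, key _ _ _ h3 h1⟩
  · exact ⟨2, 0, by omega, by omega, key _ _ _ h3 h0⟩
  · exact ⟨1, 0, by omega, by omega, key _ _ _ h1 h0⟩
  · exact ⟨1, 0, by omega, by omega, key _ _ _ h1 h0⟩

/-- **Lemma C.** -/
theorem lemC {Y : Type*} [Group Y] [Finite Y] {T X : Subgroup Y} (h : TwoCls T X) {p r : ℕ} (hp : p.Prime)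
    (hX : IsPGroup p X) (hr : r.Prime) (hr2 : r ≠ 2) (hrp : r ∣ p - 1) : r ∣ Nat.card T := by
  have hpf : Fact p.Prime := ⟨hp⟩
  have hrf : Fact r.Prime := ⟨hr⟩
  -- an element of order `p`
  obtain ⟨x, hxX, hx⟩ : ∃ x ∈ X, orderOf x = p := by
    obtain ⟨u₀, h0, h0', -⟩ := h.out
    have hd : p ∣ Nat.card X := by
      obtain ⟨n, hn⟩ := IsPGroup.iff_card.1 hX
      rcases Nat.eq_zero_or_pos n with rfl | hn0
      · exfalso
        apply h0'
        have h1 : X = ⊥ := Subgroup.card_eq_one.1 (by rw [hn, pow_zero])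
        rw [h1, Subgroup.mem_bot] at h0
        exact h0
      · rw [hn]
        exact dvd_pow_self p hn0.ne'
    obtain ⟨x, hx⟩ := exists_prime_orderOf_dvd_card' p hd
    exact ⟨x.1, x.2, by rw [Subgroup.orderOf_coe]; exact hx⟩
  -- a unit of order `r`
  obtain ⟨η, hη⟩ := exists_prime_orderOf_dvd_card' (G := (ZMod p)ˣ) r (by
    rw [Nat.card_eq_fintype_card, ZMod.card_units_eq_totient, Nat.totient_prime hp]
    exact hrp)
  set c : ℕ := (η : ZMod p).val with hc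
  have hcη : (c : ZMod p) = (η : ZMod p) := ZMod.natCast_zmod_val _
  have hcop : ∀ i, (orderOf x).Coprime (c ^ i) := by
    intro i
    rw [hx]
    exact (ZMod.isUnit_iff_coprime (c ^ i) p |>.1 (by
      rw [Nat.cast_pow, hcη]
      exact (η.isUnit).pow i)).symm
  have hord : ∀ i, orderOf (x ^ c ^ i) = p := by
    intro i
    rw [(hcop i).orderOf_pow, hx]
  obtain ⟨i, j, hji, hi2, b, hb, e⟩ := exists_same h (fun i => x ^ c ^ i) (fun i => pow_mem hxX _) (fun i h1 => by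
    have h2 := hord i
    rw [h1, orderOf_one] at h2
    exact hp.ne_one h2.symm)
  have e' : b * (x ^ c ^ j) * b⁻¹ = (x ^ c ^ j) ^ (c ^ (i - j)) := by
    rw [← pow_mul, ← pow_add, show j + (i - j) = i by omega]
    exact e
  set y := x ^ c ^ j with hy
  have hpow : ∀ n, b ^ n * y * (b ^ n)⁻¹ = y ^ ((c ^ (i - j)) ^ n) := by
    intro n
    induction n with
    | zero => simp
    | succ n ih =>
      have h1 : b ^ (n + 1) * y * (b ^ (n + 1))⁻¹ = b * (b ^ n * y * (b ^ n)⁻¹) * b⁻¹ := by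
        rw [pow_succ']
        group
      rw [h1, ih]
      have h2 : b * y ^ ((c ^ (i - j)) ^ n) * b⁻¹ = (b * y * b⁻¹) ^ ((c ^ (i - j)) ^ n) := by
        rw [conj_pow]
      rw [h2, e', ← pow_mul, ← pow_succ']
  have h1 := hpow (orderOf b)
  rw [pow_orderOf_eq_one, one_mul, inv_one, mul_one] at h1
  have h2 : y ^ ((c ^ (i - j)) ^ orderOf b) = y ^ 1 := by rw [pow_one, ← h1]
  rw [pow_eq_pow_iff_modEq, hord j, ← ZMod.natCast_eq_natCast_iff] at h2
  rw [Nat.cast_pow, Nat.cast_pow, Nat.cast_one, hcη] at h2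
  have h3 : (η ^ (i - j)) ^ orderOf b = 1 := by
    apply Units.ext
    rw [Units.val_pow_eq_pow_val, Units.val_pow_eq_pow_val, h2, Units.val_one]
  rw [← pow_mul] at h3
  have h4 : r ∣ (i - j) * orderOf b := hη ▸ orderOf_dvd_of_pow_eq_one h3
  rcases (hr.dvd_mul).1 h4 with h5 | h5
  · exfalso
    have h6 := Nat.le_of_dvd (by omega) h5
    have h7 := hr.two_le
    apply hr2
    omega
  · refine h5.trans ?_
    have h6 : orderOf (⟨b, hb⟩ : T) ∣ Nat.card T := orderOf_dvd_natCard _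
    rwa [← Subgroup.orderOf_coe] at h6

end Cfsg.Agent.H520
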