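import Mathlib
import Cfsg.Agent.H520.Glob
import Cfsg.Agent.H520.LemC
import Cfsg.Agent.H566.RgdFam

/-!
# Root group data (helper520)

* `GD M` : a condition on the diagram, all nodes are fixed by automorphisms of order prime to `6`;
* `HasRGDR p G` : a generating root group datum with `TwoCls T (X α_i)` for a node, `GD M` and at least two nodes;
* `HasRGDR.triv` : there are no nontrivial automorphisms with `HH`.
-/

set_option autoImplicit false
set_option linter.unusedSectionVars false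

namespace Cfsg.Agent.H520

open Subgroup Cfsg.Agent.Schreier.Tools Cfsg.Agent.Schreier.BNSch Cfsg.Agent.H566
open CoxeterSystem Cfsg.Agent.ChevalleyStructure.CoxeterGeom Cfsg.Agent.Tits.Roots Cfsg.Agent.Tits.Core
  Cfsg.Agent.Tits.RootComb Cfsg.Agent.Nodes.Comb Cfsg.Agent.Nodes.Reps Cfsg.Agent.Nodes.BNOf Cfsg.Agent.FixBN

/-- The condition on the diagram. -/
def GD {l : ℕ} (M : CoxeterMatrix (Fin l)) : Prop :=
  ∃ v : ℕ, (Finset.univ.filter fun k => val M k = v).card ≤ 4 ∧ (∀ k, val M k ≤ 4) ∧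
    ∃ rk : Fin l → ℕ, ∀ i, val M i = v ∨ ∃ j, (j ≠ i ∧ M j i ≠ 2) ∧ rk j < rk i

/-- A generating root group datum with a good diagram. -/
def HasRGDR (p : ℕ) (G : Type*) [Group G] : Prop :=
  ∃ (l : ℕ) (M : CoxeterMatrix (Fin l)) (i : Fin l) (A : Fin l → Fin l → ℤ) (h : IsCartan M A) (T : Subgroup G)
    (n : Fin l → G) (X : (Fin l → ℤ) → Subgroup G), Finite M.Group ∧ RGD M.toCoxeterSystem h p T n X ∧
      Nodes.RGDLib.G1 M.toCoxeterSystem h X = ⊤ ∧ TwoCls T (X (sr i)) ∧ GD M ∧ 2 ≤ l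

theorem coprime_six {K : Type*} [Group K] (h2 : 2 ∣ Nat.card K) (h3 : 3 ∣ Nat.card K) {τ : MulAut K}
    (hτ : (orderOf τ).Coprime (Nat.card K)) : (orderOf τ).Coprime 6 :=
  hτ.coprime_dvd_right (Nat.Coprime.mul_dvd_of_dvd_of_dvd (by norm_num) h2 h3)

theorem coprime_sub_one {K : Type*} [Group K] [Finite K] {T X : Subgroup K} (h : TwoCls T X) {p : ℕ} (hp : p.Prime)
    (hX : IsPGroup p X) (h2 : 2 ∣ Nat.card K) {τ : MulAut K} (hτ : (orderOf τ).Coprime (Nat.card K)) :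
    (orderOf τ).Coprime (p - 1) := by
  by_contra hcon
  obtain ⟨r, hr, hr1⟩ := Nat.exists_prime_and_dvd hcon
  have h3 : r ∣ orderOf τ := hr1.trans (Nat.gcd_dvd_left _ _)
  have h4 : r ∣ p - 1 := hr1.trans (Nat.gcd_dvd_right _ _)
  have h5 : r ∣ Nat.card K := by
    by_cases hr2 : r = 2
    · rw [hr2]; exact h2
    · exact (lemC h hp hX hr hr2 h4).trans (card_subgroup_dvd_card T)
  have h6 := Nat.dvd_gcd h3 h5
  rw [hτ] at h6
  exact hr.one_lt.ne' (Nat.dvd_one.1 h6)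

theorem HasRGDR.triv {p : ℕ} (hp : p.Prime) {G : Type*} [Group G] [Finite G] [IsSimpleGroup G]
    (h2 : 2 ∣ Nat.card G) (h3 : 3 ∣ Nat.card G) (hG : HasRGDR p G) {τ : MulAut G} (hτ : HH τ) : τ = 1 := by
  obtain ⟨l, M, i, A, h, T, n, X, hW, R, hX, hc, ⟨v, hv, hv4, rk, hrk⟩, hl⟩ := hG
  have hgen : RGD.B M.toCoxeterSystem h T X ⊔ NN M.toCoxeterSystem R.nsys = ⊤ := by
    rw [eq_top_iff, ← hX]
    exact Nodes.RGDLib.rgd_G1_le R
  have : Fact p.Prime := ⟨hp⟩
  have hne : (R.bnPair hgen).S.Nonempty := ⟨n i, i, rfl⟩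
  have hS := SplitRGD.split_of_rgd hp R hgen (Cfsg.Agent.Tits.OfBN.normalCore_eq_bot (R.bnPair hgen) hne)
  obtain ⟨m, hm, hH⟩ := hS.tor
  have hXU : X (sr i) ≤ RGD.Sup X (RGD.Pos M.toCoxeterSystem h) :=
    RGD.le_Sup ⟨isRoot_sr M.toCoxeterSystem h i, sr_nonneg i⟩
  have hXp : IsPGroup p (X (sr i)) := hS.isP.to_le hXU
  refine rBN (R.bnPair hgen) (p := p) (RGD.Sup X (RGD.Pos M.toCoxeterSystem h)) hS.isP hS.le hS.norm hS.cover m hm hH
    hS.node hne ?_ (fun τ hτ => coprime_sub_one hc hp hXp h2 hτ.1) ?_ hτ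
  · rintro _ ⟨j, rfl⟩
    have h1 : ∃ k : Fin l, k ≠ j := by
      by_cases hj : (j : ℕ) = 0
      · exact ⟨⟨1, by omega⟩, fun e => by
          have := congrArg Fin.val e
          simp only at this
          omega⟩
      · exact ⟨⟨0, by omega⟩, fun e => by
          have := congrArg Fin.val e
          simp only at this
          omega⟩
    obtain ⟨k, hk⟩ := h1
    exact ⟨n k, ⟨k, rfl⟩, fun e => hk (R.n_injective e).symm⟩
  · intro τ hτ hB
    let dr : DecidableRel (fun i j : Fin l => i ≠ j ∧ M i j ≠ 2) := fun i j =>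
      inferInstanceAs (Decidable (i ≠ j ∧ M i j ≠ 2))
    refine perm_of_graph (R.bnPair hgen) n rfl R.n_injective (fun i j => i ≠ j ∧ M i j ≠ 2)
      (fun i h => h.1 rfl) ?_ v hv hv4 rk hrk (coprime_six h2 h3 hτ.1) hB
    intro i j hij
    constructor
    · rintro ⟨-, h3⟩ h4
      exact h3 ((comm_mem_iff R hij).1 h4)
    · intro h3
      exact ⟨hij, fun h4 => h3 ((comm_mem_iff R hij).2 h4)⟩

end Cfsg.Agent.H520
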