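import Mathlib
import Cfsg.Agent.H520.Rgd

/-!
# The diagrams of the families (helper520)
-/

set_option autoImplicit false

namespace Cfsg.Agent.H520

open Cfsg.Agent.H566 Cfsg.Agent

/-- paths -/
theorem gd_path {l : ℕ} (M : CoxeterMatrix (Fin l)) (hl : 0 < l)
    (hM : ∀ i j : Fin l, i ≠ j → (M i j ≠ 2 ↔ (i : ℕ) + 1 = j ∨ (j : ℕ) + 1 = i)) : GD M := by
  refine ⟨val M ⟨0, hl⟩, (card_val_path M hl hM).trans (by norm_num), ?_, fun i => i, ?_⟩
  · intro k
    have hk := k.2
    have h2 : (Finset.univ.filter fun j => k ≠ j ∧ M k j ≠ 2) ⊆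
        {⟨(k : ℕ) - 1, by omega⟩, ⟨if (k : ℕ) + 1 < l then (k : ℕ) + 1 else 0, by split_ifs <;> omega⟩} := by
      intro j hj
      rw [Finset.mem_filter] at hj
      have h3 := (hM _ _ hj.2.1).1 hj.2.2
      rw [Finset.mem_insert, Finset.mem_singleton, Fin.ext_iff, Fin.ext_iff]
      simp only
      have hj2 := j.2
      split_ifs <;> omega
    exact ((Finset.card_le_card h2).trans Finset.card_le_two).trans (by norm_num)
  · intro i
    by_cases hi : (i : ℕ) = 0
    · left
      congr 1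
      exact Fin.ext hi
    · right
      have hne : (⟨(i : ℕ) - 1, by omega⟩ : Fin l) ≠ i := fun e => by
        have := congrArg Fin.val e
        simp only at this
        omega
      exact ⟨⟨(i : ℕ) - 1, by omega⟩, ⟨hne, (hM _ _ hne).2 (Or.inl (by simp only; omega))⟩, by simp only; omega⟩

theorem gd_A {n : ℕ} (hn : 0 < n) : GD (LieRecognition.BNCox.cA n) := by
  refine gd_path _ hn fun i j hij => ?_
  have hij' : (i : ℕ) ≠ j := fun e => hij (Fin.ext e)
  change LieRecognition.CoxClass.mA (i : ℕ) (j : ℕ) ≠ 2 ↔ _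
  unfold LieRecognition.CoxClass.mA
  split_ifs <;> omega

theorem gd_B {n : ℕ} (hn : 0 < n) : GD (CoxeterMatrix.B n) := by
  refine gd_path _ hn fun i j hij => ?_
  have hij' : (i : ℕ) ≠ j := fun e => hij (Fin.ext e)
  have hi := i.2
  have hj := j.2
  simp only [CoxeterMatrix.B, Matrix.of_apply, hij, if_false]
  split_ifs <;> omega

theorem gd_D (n : ℕ) : GD (Nodes.TypeD.M (n + 2)) := by
  have hM : ∀ i j : Fin (n + 4), i ≠ j → ((Nodes.TypeD.M (n + 2)) i j ≠ 2 ↔
      Nodes.TypeD.Adj i j ∨ Nodes.TypeD.Adj j i) := by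
    intro i j hij
    rw [Nodes.TypeD.M_apply, if_neg hij]
    split_ifs with h <;> simp [h]
  refine ⟨val (Nodes.TypeD.M (n + 2)) ⟨n + 1, by omega⟩, (card_val_D n).trans (by norm_num), ?_,
    fun i => if (i : ℕ) ≤ n + 1 then n + 1 - i else 1, ?_⟩
  · intro k
    have hk2 := k.2
    have h2 : (Finset.univ.filter fun j => k ≠ j ∧ (Nodes.TypeD.M (n + 2)) k j ≠ 2) ⊆
        {⟨(k : ℕ) - 1, by omega⟩, ⟨if (k : ℕ) ≤ n then (k : ℕ) + 1 else n + 1, by split_ifs <;> omega⟩,
          ⟨n + 2, by omega⟩, ⟨n + 3, by omega⟩} := by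
      intro j hj
      rw [Finset.mem_filter] at hj
      have h3 := (hM _ _ hj.2.1).1 hj.2.2
      rw [Finset.mem_insert, Finset.mem_insert, Finset.mem_insert, Finset.mem_singleton, Fin.ext_iff, Fin.ext_iff,
        Fin.ext_iff, Fin.ext_iff]
      unfold Nodes.TypeD.Adj at h3
      simp only
      have hj2 := j.2
      split_ifs <;> omega
    exact (Finset.card_le_card h2).trans Finset.card_le_four
  · intro i
    have hi := i.2
    by_cases h1 : (i : ℕ) = n + 1
    · left
      congr 1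
      exact Fin.ext h1
    · right
      rcases Nat.lt_or_ge (i : ℕ) (n + 1) with h2 | h2
      · have hne : (⟨(i : ℕ) + 1, by omega⟩ : Fin (n + 4)) ≠ i := fun e => by
          have := congrArg Fin.val e
          simp only at this
          omega
        refine ⟨⟨(i : ℕ) + 1, by omega⟩, ⟨hne, (hM _ _ hne).2 (Or.inr (Or.inl ⟨by simp only; omega, rfl⟩))⟩, ?_⟩
        simp only
        split_ifs <;> omega
      · have hne : (⟨n + 1, by omega⟩ : Fin (n + 4)) ≠ i := fun e => by
          have := congrArg Fin.val e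
          simp only at this
          omega
        refine ⟨⟨n + 1, by omega⟩, ⟨hne, (hM _ _ hne).2 (Or.inl ?_)⟩, ?_⟩
        · unfold Nodes.TypeD.Adj
          show (i : ℕ) < n + 2 + 1 ∧ n + 1 + 1 = (i : ℕ) ∨ (i : ℕ) = n + 2 + 1 ∧ n + 1 + 2 = (i : ℕ)
          omega
        · simp only
          split_ifs <;> omega

theorem gd_G : GD CoxeterMatrix.G₂ :=
  ⟨val CoxeterMatrix.G₂ 0, by decide +kernel, by decide +kernel, ![0, 0], by decide +kernel⟩

theorem gd_F : GD CoxeterMatrix.F₄ :=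
  ⟨val CoxeterMatrix.F₄ 1, by decide +kernel, by decide +kernel, ![1, 0, 0, 1], by decide +kernel⟩

theorem gd_E6 : GD CoxeterMatrix.E₆ :=
  ⟨val CoxeterMatrix.E₆ 3, by decide +kernel, by decide +kernel, ![2, 1, 1, 0, 1, 2], by decide +kernel⟩

theorem gd_E7 : GD CoxeterMatrix.E₇ :=
  ⟨val CoxeterMatrix.E₇ 3, by decide +kernel, by decide +kernel, ![2, 1, 1, 0, 1, 2, 3], by decide +kernel⟩

theorem gd_E8 : GD CoxeterMatrix.E₈ :=
  ⟨val CoxeterMatrix.E₈ 3, by decide +kernel, by decide +kernel, ![2, 1, 1, 0, 1, 2, 3, 4], by decide +kernel⟩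

end Cfsg.Agent.H520
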