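import Mathlib
import Cfsg.Agent.H520.Diag
import Cfsg.Agent.H566.RgdExc

/-!
# The families with root group data of rank at least two (helper520)
-/

set_option autoImplicit false
set_option linter.unusedSectionVars false

namespace Cfsg.Agent.H520

open Subgroup Cfsg.Agent.Schreier.Tools Cfsg.Agent.Schreier.BNSch Cfsg.Agent.H566
open CoxeterSystem Cfsg.Agent.ChevalleyStructure.CoxeterGeom Cfsg.Agent.Tits.Roots Cfsg.Agent.Tits.Core
  Cfsg.Agent.Tits.RootComb Cfsg.Agent.Nodes.Comb Cfsg.Agent.Nodes.Reps Cfsg.Agent.Nodes.BNOf Cfsg.Agent.FixBN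

/-! ### Type `A_n` -/

section TypeA

open Nodes.RGDTypeA Cfsg.Agent.TitsThree.KSideA Matrix

variable {F : Type*} [Field F]

theorem rgdr_PSL [Finite F] (n : ℕ) (hn : 2 ≤ n) {p : ℕ} [Fact p.Prime] [CharP F p] :
    HasRGDR p (Matrix.ProjectiveSpecialLinearGroup (Fin (n + 1)) F) := by
  have : Finite (LieRecognition.BNCox.cA n).Group :=
    Nodes.RootsA.finite_W (LieRecognition.BNCox.cA n).toCoxeterSystem (Nodes.RootsA.isCartan n)
  refine ⟨n, LieRecognition.BNCox.cA n, ⟨0, by omega⟩, Nodes.RootsA.AA n, Nodes.RootsA.isCartan n, _, _, _, this,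
    Nodes.RGDTypeA.rgd_psl _ _, Nodes.RGDTypeA.G1_psl_eq_top _ _, ?_, gd_A (by omega), hn⟩
  refine (twoCls_SL _).map _ fun u hu h1 => ?_
  refine H566.eq_one_of_central (Nodes.RGDTypeA.rgd (LieRecognition.BNCox.cA n).toCoxeterSystem
    (Nodes.RootsA.isCartan n) (p := p)) hu ?_
  rw [← ker_pr]
  exact h1

end TypeA

section Witt

open Cfsg.Agent.Nodes Cfsg.Agent.Nodes.WittAll Cfsg.Agent.Nodes.WittU Cfsg.Agent.Nodes.WittInst
  Cfsg.Agent.Nodes.WittRoot Cfsg.Agent.Nodes.WittRGD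
  Cfsg.Agent.TitsThree.Siegel Cfsg.Agent.TitsThree.SiegelGen
  Cfsg.Agent.TitsThree.WittFrame Cfsg.Agent.TitsThree.WBridge Cfsg.Agent.TitsThree.WittWeyl
  Cfsg.Agent.TitsThree.FrameCN

variable {F : Type*} [Field F] {V : Type*} [AddCommGroup V] [Module F V] {H : HForm F V} {n : ℕ}
  {Fr : Frame H (Fin n)}

theorem rgdr_C {K : Type*} [Group K] (M : Model Fr K) {p : ℕ} (hA : AmbT Fr p M.I) [Finite V] [Finite F]
    [Fact p.Prime] [CharP F p] {p0 : Fr.Adm} (hp0 : p0.c ≠ 0) (hn : 2 ≤ n) : HasRGDR p K := by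
  have : Finite (V ≃ₗ[F] V) := Finite.of_injective (fun g : V ≃ₗ[F] V => (g : V → V)) DFunLike.coe_injective
  have hWf : Finite (CoxeterMatrix.B n).Group := TypeC.finite_W (CoxeterMatrix.B n).toCoxeterSystem
  have hi : ((⟨0, by omega⟩ : Fin n) : ℕ) + 1 < n := by simp only; omega
  have hne : ((⟨0, by omega⟩, true) : Fin n × Bool).1 ≠ (TypeC.nx ⟨0, by omega⟩).1 := by
    unfold TypeC.nx; rw [dif_pos hi]; simp [Fin.ext_iff]
  refine ⟨n, CoxeterMatrix.B n, ⟨0, by omega⟩, TypeC.A n, TypeC.isCartan n, _, _, _, hWf,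
    rgdC_model M hA hp0 (CoxeterMatrix.B n).toCoxeterSystem, WittModel.G1_eq_top _ (by omega) _, ?_,
    gd_B (by omega), hn⟩
  have h1 : TwoCls (Tor Fr M.I) (rg Fr (sr ⟨0, by omega⟩)) := by
    rw [rg_sr, PG_ne Fr hne]
    exact twoCls_XG hne fun c hc => hX_mem_Tor hA hi hc
  refine (h1.subgroupOf M.I (fun g hg => hg.1) (hA.rg_le _)).map _ fun u hu h1 => ?_
  exact H566.eq_one_of_central (RGDLib.rgd_restrict (rgdC hA hp0 (CoxeterMatrix.B n).toCoxeterSystem) M.I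
    (fun x _ => hA.rg_le x) (fun i => WittAll.nn_mem hA p0 i)) hu (WittAll.ker_le_center M h1)

theorem rgdr_PSU {F : Type*} [Field F] [Fintype F] {q N : ℕ} (hF : Fintype.card F = q ^ 2) (hN : 4 ≤ N) {p : ℕ}
    [Fact p.Prime] [CharP F p] : HasRGDR p (Cfsg.PSU N F q) := by
  obtain ⟨m, hm⟩ : ∃ m, N = 2 * m ∨ N = 2 * m + 1 := ⟨N / 2, by omega⟩
  obtain ⟨W, -⟩ := exists_wframe hF hm
  obtain ⟨p0, hp0, -⟩ := exists_adm hF W
  exact rgdr_C (TitsThree.KInstU.model hF (by omega) W) (AmbT.of_amb (amb_U hF W) p) hp0 (by omega)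

theorem rgdr_PSp {F : Type*} [Field F] [Finite F] {m : ℕ} (hm : 2 ≤ m) {p : ℕ}
    [Fact p.Prime] [CharP F p] : HasRGDR p (Cfsg.PSp m F) :=
  rgdr_C (TitsThree.KInstSp.model m F) (AmbT.of_amb amb_Sp p) (p0 := TitsThree.SpIdent.adm 1) one_ne_zero hm

end Witt

section Orthogonal

open QuadraticMap
open Cfsg.Agent.LieClassical Cfsg.Agent.LieClassical.OrthCore Cfsg.Agent.LieClassical.OrthTrans
open Cfsg.Agent.LieClassical.OrthSimple Cfsg.Agent.LieClassical.OrthFinite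
open Cfsg.Agent.LieClassical.OrthForms
open Cfsg.Agent.TitsThree.KSideO Cfsg.Agent.TitsThree.StdData
open Cfsg.Agent.Nodes Cfsg.Agent.Nodes.WittAll Cfsg.Agent.Nodes.WittU Cfsg.Agent.Nodes.WittInst
  Cfsg.Agent.TitsThree.Siegel Cfsg.Agent.TitsThree.SiegelGen
  Cfsg.Agent.TitsThree.WittFrame Cfsg.Agent.TitsThree.WBridge Cfsg.Agent.TitsThree.WittWeyl
  Cfsg.Agent.TitsThree.FrameCN

variable {F : Type*} [Field F] {m : ℕ}

theorem rgdr_PO_odd [Finite F] (h2 : (2 : F) ≠ 0) (hm : 2 ≤ m) {p : ℕ} [Fact p.Prime] [CharP F p] :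
    HasRGDR p (Cfsg.POmega F (Cfsg.quadFormOdd m F)) := by
  rw [← coe_oddForm]
  have hG : Good (oddForm m F) := by
    apply good_of_finite (nondeg_oddForm m F h2)
    rw [Module.finrank_fintype_fun_eq_card, Fintype.card_sum, Fintype.card_sum, Fintype.card_fin,
      Fintype.card_unit]
    omega
  have hp : ((embOdd m F).ngt ⟨1, -1 ^ 2, rfl⟩).c ≠ 0 := by
    change (1 : F)⁻¹ * (-1 ^ 2) ≠ 0
    simp
  exact rgdr_C (model (wodd m F) hG ⟨_, hp⟩) (AmbT.of_amb (amb_O_of_two _ h2) p) hp (by omega)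

theorem rgdr_PO_minus [Finite F] {a b : F} (hab : ∀ z₁ z₂ : F, z₁ ^ 2 + a * z₁ * z₂ + b * z₂ ^ 2 = 0 → z₁ = 0 ∧ z₂ = 0)
    (hm : 2 ≤ m) {p : ℕ} [Fact p.Prime] [CharP F p] :
    HasRGDR p (Cfsg.POmega F (Cfsg.quadFormMinus m F a b)) := by
  rw [← coe_minusForm]
  have hG : Good (minusForm m F a b) := by
    apply good_of_finite (nondeg_minusForm m F a b hab)
    rw [Module.finrank_fintype_fun_eq_card, Fintype.card_sum, Fintype.card_sum, Fintype.card_fin,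
      Fintype.card_fin]
    omega
  have hp : ((embMinus m F a b hab).ngt ⟨(1, 0), -nf a b (1, 0), rfl⟩).c ≠ 0 := by
    change (1 : F)⁻¹ * (-nf a b (1, 0)) ≠ 0
    simp [nf]
  have hA : AmbT (toFrame (wminus m F a b hab)) p (E (minusForm m F a b)) := by
    by_cases h2 : (2 : F) = 0
    · have hp2 : p = 2 := by
        have h3 : CharP F 2 := CharTwo.of_one_ne_zero_of_two_eq_zero one_ne_zero h2
        exact CharP.eq F ‹CharP F p› h3
      subst hp2
      exact ambT_O _ fun g hg hg2 hb => fixp_minus a b hab h2 hm hG hg hg2 hb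
    · exact AmbT.of_amb (amb_O_of_two _ h2) p
  exact rgdr_C (model (wminus m F a b hab) hG ⟨_, hp⟩) hA hp (by omega)

theorem rgdr_PO_plus [Finite F] (n : ℕ) {p : ℕ} [Fact p.Prime] [CharP F p] :
    HasRGDR p (Cfsg.POmega F (Cfsg.quadFormPlus (n + 4) F)) := by
  rw [← coe_plusForm]
  have hG : Good (plusForm (n + 4) F) := by
    apply good_of_finite (nondeg_plusForm (n + 4) F)
    rw [Module.finrank_fintype_fun_eq_card, Fintype.card_sum, Fintype.card_fin]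
    omega
  have hWf : Finite (Nodes.TypeD.M (n + 2)).Group := Nodes.TypeD.finite_W (Nodes.TypeD.M (n + 2)).toCoxeterSystem
  refine ⟨n + 4, Nodes.TypeD.M (n + 2), ⟨n + 1, by omega⟩, Nodes.TypeD.A (n + 2), Nodes.TypeD.isCartan (n + 2), _, _, _,
    hWf, rgdD_model (wplus (n + 4) F) hG (amb_plus _) (adm_plus _) _,
    G1D_eq_top (wplus (n + 4) F) (toPOmega hG) (toPOmega_surjective hG) (adm_plus _) _, ?_, gd_D n, by omega⟩
  have hA := amb_plus (F := F) (n + 4)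
  have hok := Nodes.TypeD.ok_nx (⟨n + 1, by omega⟩ : Fin (n + 4))
  have h1 : TwoCls (WittRGD.Tor (toFrame (wplus (n + 4) F)) (E (plusForm (n + 4) F)))
      (WittRGDD.rg (toFrame (wplus (n + 4) F)) (sr (⟨n + 1, by omega⟩ : Fin (n + 4)))) := by
    rw [WittRGDD.rg_sr]
    exact twoCls_XG hok fun c hc => WittRGDD.tor_of_mono hA (WittRGDD.nX_mem hA _ _ _) (WittRGDD.nX_mem hA _ _ _)
      (WittRGDD.mono_nX' _ hc) (WittRGDD.mono_nX' _ one_ne_zero)
  refine (h1.subgroupOf (E (plusForm (n + 4) F)) (fun g hg => hg.1)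
    (rgD_le (wplus (n + 4) F) hA _)).map _ fun u hu h1 => ?_
  exact H566.eq_one_of_central (RGDLib.rgd_restrict (rgdD hA (adm_plus _) (Nodes.TypeD.M (n + 2)).toCoxeterSystem) (p := p)
    (E (plusForm (n + 4) F)) (fun x _ => rgD_le _ hA x) (fun i => WittRGDD.nn_mem hA i)) hu (ker_toPOmega hG h1)

end Orthogonal

open Cfsg.Lie Cfsg.Agent.ChevalleyStructure Cfsg.Agent.ChevalleyStructure.Elts
open Cfsg.Agent.Nodes.RGDChev
open Cfsg.Agent.ChevalleyStructure.RootVec Cfsg.Agent.ChevalleyStructure.RootVecTab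
  Cfsg.Agent.ChevalleyStructure.NPerm Cfsg.Agent.ChevalleyStructure.CoxeterGeomTypes

universe u

theorem HasRGDR.of_equiv {p : ℕ} {G H : Type*} [Group G] [Group H] (e : G ≃* H) (hG : HasRGDR p G) : HasRGDR p H := by
  obtain ⟨l, M, i, A, h, T, n, X, hW, R, hX, hc, hv⟩ := hG
  refine ⟨l, M, i, A, h, T.map e.toMonoidHom, fun i => e (n i), fun x => (X x).map e.toMonoidHom, hW,
    Nodes.RGDLib.rgd_map_of_injective R e.toMonoidHom e.injective, ?_,
    hc.map e.toMonoidHom (fun u _ hu => e.injective (hu.trans (map_one e).symm)), hv⟩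
  have h1 : (Nodes.RGDLib.G1 M.toCoxeterSystem h X).map e.toMonoidHom =
      Nodes.RGDLib.G1 M.toCoxeterSystem h (fun x => (X x).map e.toMonoidHom) := by
    unfold Nodes.RGDLib.G1 RGD.Sup
    rw [Subgroup.map_iSup]
  rw [← h1, hX, Subgroup.map_top_of_surjective _ e.surjective]

theorem rgdr_group {D : ChevalleyDatum} {l : ℕ} {M : CoxeterMatrix (Fin l)} (hp : IsType D l M) {K : Type u} [Field K]
    [Finite K] (p : ℕ) [CharP K p] (i : Fin l) (hv : GD M) (hl : 2 ≤ l) : HasRGDR p ↥(D.group K) := by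
  have : Fact p.Prime := ⟨CharP.char_is_prime K p⟩
  exact ⟨l, M, i, _, hp.isCartan, _, _, _, finite_W hp M.toCoxeterSystem,
    rgd (K := K) hp M.toCoxeterSystem p, G1_eq_top hp _, twoCls_group hp i, hv, hl⟩

theorem rgdr_of_exc {p : ℕ} {G : Type*} [Group G] (hG : IsExceptionalChevChar p G) : HasRGDR p G := by
  obtain ⟨F, _, _, _, ⟨-, ⟨e⟩⟩ | ⟨⟨e⟩⟩ | ⟨⟨e⟩⟩ | ⟨⟨e⟩⟩ | ⟨⟨e⟩⟩⟩ := hG
  · exact (rgdr_group (l := 2) (M := CoxeterMatrix.G₂) (by simp [IsType, typeList]) (K := F) p 0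
      gd_G (by norm_num)).of_equiv e.symm
  · exact (rgdr_group (l := 4) (M := CoxeterMatrix.F₄) (by simp [IsType, typeList]) (K := F) p 1
      gd_F (by norm_num)).of_equiv e.symm
  · exact (rgdr_group (l := 6) (M := CoxeterMatrix.E₆) (by simp [IsType, typeList]) (K := F) p 3
      gd_E6 (by norm_num)).of_equiv e.symm
  · exact (rgdr_group (l := 7) (M := CoxeterMatrix.E₇) (by simp [IsType, typeList]) (K := F) p 3
      gd_E7 (by norm_num)).of_equiv e.symm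
  · exact (rgdr_group (l := 8) (M := CoxeterMatrix.E₈) (by simp [IsType, typeList]) (K := F) p 3
      gd_E8 (by norm_num)).of_equiv e.symm

theorem rgdr_twE6 {K : Type u} [Field K] [Fintype K] {q : ℕ} (hq : IsPrimePow q) (hK : Fintype.card K = q ^ 2)
    (p : ℕ) [CharP K p] : HasRGDR p ↥(Lie.twistedE6 K q) := by
  have : Fact p.Prime := ⟨CharP.char_is_prime K p⟩
  obtain ⟨φ, hφ, hqq⟩ := ChevalleyStructure.TwE6Basic.exists_frob hq hK
  exact ⟨4, CoxeterMatrix.F₄, 1, _, Nodes.RGDTwE6.isCartan, _, _, _,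
    Nodes.RGDFold.finite_W (hp := Nodes.RGDTwE6.hp) CoxeterMatrix.F₄.toCoxeterSystem Nodes.RGDTwE6.isCartan Nodes.RGDTwE6.foldData,
    Nodes.RGDTwE6.rgd _ hφ hqq p, Nodes.RGDTwE6.G1_eq_top _ hφ hqq, twoCls_twE6 hφ, gd_F, by norm_num⟩

theorem rgdr_twD4 {K : Type u} [Field K] [Fintype K] {q : ℕ} (hq : IsPrimePow q) (hK : Fintype.card K = q ^ 3)
    (p : ℕ) [CharP K p] : HasRGDR p ↥(Lie.twistedD4 K q) := by
  have : Fact p.Prime := ⟨CharP.char_is_prime K p⟩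
  obtain ⟨φ, hφ⟩ := ChevalleyStructure.D4Fixed.exists_frob hq hK
  exact ⟨2, CoxeterMatrix.G₂, 0, _, Nodes.RGDTwD4.isCartan, _, _, _,
    Nodes.RGDFold.finite_W (hp := Nodes.RGDTwD4.hp) CoxeterMatrix.G₂.toCoxeterSystem Nodes.RGDTwD4.isCartan Nodes.RGDTwD4.foldData,
    Nodes.RGDTwD4.rgd _ hK hφ p, Nodes.RGDTwD4.G1_eq_top _ hK hφ, twoCls_twD4 hφ, gd_G, by norm_num⟩

theorem rgdr_of_tw {p : ℕ} {G : Type*} [Group G] (hG : IsTwistedE6D4Char p G) : HasRGDR p G := by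
  obtain ⟨K, _, _, _, q, hq, ⟨hK, ⟨e⟩⟩ | ⟨hK, ⟨e⟩⟩⟩ := hG
  · exact (rgdr_twE6 hq hK p).of_equiv e.symm
  · exact (rgdr_twD4 hq hK p).of_equiv e.symm

end Cfsg.Agent.H520
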