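import Mathlib
import Cfsg.Agent.H520.Glob
import Cfsg.Agent.GTwoRows.Base
import Cfsg.Agent.LieClassical.FieldTransfer

/-!
# Coprime automorphisms of quasisimple groups with a centre of order at most two (helper520)
-/

set_option autoImplicit false

namespace Cfsg.Agent.H520

open Subgroup

/-- a group of order at most two has no automorphism -/
theorem fix_center {G : Type*} [Group G] [Finite G] (hz : Nat.card (center G) ≤ 2) (τ : MulAut G) {z : G}
    (h : z ∈ center G) : τ z = z := by
  by_cases h1 : z = 1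
  · rw [h1, map_one]
  · have h2 : τ z ≠ 1 := fun h => h1 (τ.injective (h.trans (map_one τ).symm))
    have h3 : τ z ∈ center G := by
      rw [mem_center_iff]
      intro g
      have h4 := mem_center_iff.1 h (τ.symm g)
      have h5 := congrArg τ h4
      rw [map_mul, map_mul, MulEquiv.apply_symm_apply] at h5
      exact h5
    by_contra h4
    classical
    have h5 : ({⟨1, one_mem _⟩, ⟨z, h⟩, ⟨τ z, h3⟩} : Finset (center G)).card ≤ Nat.card (center G) := by
      have := Fintype.ofFinite (center G)
      rw [Nat.card_eq_fintype_card]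
      exact Finset.card_le_univ _
    rw [Finset.card_eq_three.2 ⟨⟨1, one_mem _⟩, ⟨z, h⟩, ⟨τ z, h3⟩, fun h => h1 (congrArg Subtype.val h).symm,
      fun h => h2 (congrArg Subtype.val h).symm, fun h => h4 (congrArg Subtype.val h).symm, rfl⟩] at h5
    omega

/-- **A coprime automorphism of a quasisimple group with a centre of order at most two and `[G, τ]` solvable is trivial.** -/
theorem triv_of_quasi {G : Type*} [Group G] [Finite G] (hs : IsSimpleGroup (G ⧸ center G))
    (hns : ¬ Group.IsSolvable (G ⧸ center G)) (hz : Nat.card (center G) ≤ 2) {τ : MulAut G}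
    (hco : (orderOf τ).Coprime (Nat.card G)) (h : Group.IsSolvable (cG τ)) : τ = 1 := by
  have hn : (cG τ).Normal := cG_normal τ
  have hn1 : ((cG τ).map (QuotientGroup.mk' (center G))).Normal := hn.map _ (QuotientGroup.mk'_surjective _)
  have h1 : cG τ ≤ center G := by
    rcases hn1.eq_bot_or_eq_top with h1 | h1
    · rw [Subgroup.map_eq_bot_iff, QuotientGroup.ker_mk'] at h1
      exact h1
    · exfalso
      apply hns
      have h2 : Group.IsSolvable ((cG τ).map (QuotientGroup.mk' (center G))) :=
        Group.isSolvable_of_surjective (f := (QuotientGroup.mk' (center G)).subgroupMap _)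
          ((QuotientGroup.mk' (center G)).subgroupMap_surjective _)
      rw [h1] at h2
      exact Group.isSolvable_of_surjective (f := (topEquiv (G := G ⧸ center G)).toMonoidHom) topEquiv.surjective
  ext g
  exact eq_of_fixed hco (fix_center hz τ (h1 (mem_cG τ g)))

/-- quasisimple with a centre of order at most two -/
def QS (G : Type*) [Group G] : Prop :=
  IsSimpleGroup (G ⧸ center G) ∧ ¬ Group.IsSolvable (G ⧸ center G) ∧ Nat.card (center G) ≤ 2

theorem QS.congr {G H : Type*} [Group G] [Group H] (e : G ≃* H) (h : QS G) : QS H := by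
  have e1 := LieClassical.FieldTransfer.centralQuotientCongr e
  refine ⟨?_, fun h2 => h.2.1 ?_, ?_⟩
  · have h1 := h.1
    exact e1.isSimpleGroup_congr.1 h1
  · exact Group.isSolvable_of_surjective (f := e1.symm.toMonoidHom) e1.symm.surjective
  · rw [← Nat.card_congr (centerCongr e).toEquiv]
    exact h.2.2

theorem QS.of_surj {G S : Type*} [Group G] [Group S] [IsSimpleGroup S] (f : G →* S) (hf : Function.Surjective f)
    (hk : f.ker = center G) (hns : ¬ Group.IsSolvable S) (hz : Nat.card (center G) ≤ 2) : QS G := by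
  have e : (G ⧸ center G) ≃* S :=
    (QuotientGroup.quotientMulEquivOfEq hk.symm).trans (QuotientGroup.quotientKerEquivOfSurjective f hf)
  refine ⟨?_, fun h2 => hns ?_, hz⟩
  · exact e.isSimpleGroup_congr.2 inferInstance
  · exact Group.isSolvable_of_surjective (f := e.toMonoidHom) e.surjective

theorem not_solv {S : Type*} [Group S] [IsSimpleGroup S] (hna : ¬ IsMulCommutative S) : ¬ Group.IsSolvable S := by
  intro hs
  apply hna
  exact ⟨⟨fun a b => (IsSimpleGroup.comm_iff_isSolvable.2 hs) a b⟩⟩

/-- `SL₂(F)` -/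
theorem qs_sl {F : Type} [Field F] [Fintype F] (h3 : 3 < Fintype.card F) :
    QS (Matrix.SpecialLinearGroup (Fin 2) F) := by
  refine ⟨TwoFusion.SLTwoFacts.isSimpleGroup_psl h3, ?_, ?_⟩
  · have : IsSimpleGroup (Matrix.ProjectiveSpecialLinearGroup (Fin 2) F) := TwoFusion.SLTwoFacts.isSimpleGroup_psl h3
    exact not_solv (GTwoRows.not_comm_psl h3)
  · rw [Nat.card_congr (Matrix.SpecialLinearGroup.center_equiv_rootsOfUnity (n := Fin 2) (R := F)).toEquiv]
    have hne : NeZero (max (Fintype.card (Fin 2)) 1) := ⟨by simp⟩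
    exact (card_rootsOfUnity F _)

/-- `2 × S` -/
theorem qs_prod {A S : Type*} [CommGroup A] [Group S] [IsSimpleGroup S] (hna : ¬ IsMulCommutative S)
    (hA : Nat.card A ≤ 2) : QS (A × S) := by
  have hc : center S = ⊥ := by
    rcases (inferInstance : (center S).Normal).eq_bot_or_eq_top with h | h
    · exact h
    · exact absurd (center_eq_top_iff.1 h) hna
  have hcc : center (A × S) = prod ⊤ ⊥ := by
    rw [Subgroup.center_prod, hc, CommGroup.center_eq_top]
  refine QS.of_surj (MonoidHom.snd A S) Prod.snd_surjective ?_ (not_solv hna) ?_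
  · rw [hcc]
    ext ⟨a, s⟩
    simp [mem_prod]
  · rw [hcc]
    have e : (prod (⊤ : Subgroup A) (⊥ : Subgroup S)) ≃* _ := prodEquiv _ _
    rw [Nat.card_congr e.toEquiv, Nat.card_prod]
    simpa using hA

/-- **Fixed subgroups.** -/
theorem HH.fix {K : Type*} [Group K] [Finite K] {τ : MulAut K} (h : HH τ) {M : Subgroup K} (hM : M ≠ ⊤)
    (hinv : ∀ m ∈ M, τ m ∈ M) (hq : QS M) : ∀ m ∈ M, τ m = m := by
  have h1 := (solvable_cM_iff τ M hinv).1 (h.2 M hM hinv)
  have h2 := triv_of_quasi hq.1 hq.2.1 hq.2.2 (coprime_resA h.1 M hinv) h1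
  intro m hm
  have h3 := congrArg (fun x : MulAut M => ((x ⟨m, hm⟩ : M) : K)) h2
  exact h3

end Cfsg.Agent.H520
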