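import Mathlib
import Cfsg.Agent.H520.Cen
import Cfsg.Agent.H254.CopLin
import Cfsg.Agent.Phan.SU2Model

/-!
# Coprime automorphisms of `PSU₃(q)` (helper520)

`triv_PSU3` : a coprime automorphism `τ` of `PSU₃(q)` with `[M, τ]` solvable for all proper invariant `M` is trivial.
-/

set_option autoImplicit false

namespace Cfsg.Agent.H520

open Cfsg Subgroup Matrix Cfsg.Agent.ClassicalGeometry.UnitAutBasic Cfsg.Agent.ClassicalGeometry.PSUAutCount
  Cfsg.Agent.LieClassical.FieldTransfer Cfsg.Agent.LieClassical.SUBasic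

variable {F : Type} [Field F] [Fintype F] {q : ℕ}

/-- `SU₂ → PSU₃` -/
def j3 (hF : Fintype.card F = q ^ 2) : SU 2 F q →* PSU 3 F q :=
  (pr 3 F q).comp (Phan.emb hF 0 (by norm_num : 0 + 2 ≤ 3))

omit [Fintype F] in
theorem mat_suCongr {n : ℕ} (σ : F ≃+* F) (g : SU n F q) :
    Phan.mat (suCongr n q σ g) = (Phan.mat g).map (σ : F →+* F) := rfl

theorem fld_j3 (hF : Fintype.card F = q ^ 2) (σ : F ≃+* F) (g : SU 2 F q) :
    H254.PSUn.fld 3 q σ (j3 hF g) = j3 hF (suCongr 2 q σ g) := by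
  rw [H254.PSUn.fld_apply]
  show toAut 1 σ (pr 3 F q (Phan.emb hF 0 (by norm_num : 0 + 2 ≤ 3) g)) = pr 3 F q _
  rw [toAut_pr]
  congr 1
  apply Phan.mat_inj
  have h1 : Phan.mat (semiConj 1 σ (Phan.emb hF 0 (by norm_num : 0 + 2 ≤ 3) g)) =
    gm (1 : Cfsg.GU 3 F q) * Phan.mat (suCongr 3 q σ (Phan.emb hF 0 (by norm_num : 0 + 2 ≤ 3) g)) * gm (1 : Cfsg.GU 3 F q)⁻¹ := rfl
  rw [h1, inv_one, gm_one, one_mul, mul_one, mat_suCongr]
  unfold Phan.emb
  rw [Phan.mat_ext, Phan.mat_ext, Phan.extM_map, mat_suCongr]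

theorem mat_emb_two (hF : Fintype.card F = q ^ 2) (g : SU 2 F q) :
    Phan.mat (Phan.emb hF 0 (by norm_num : 0 + 2 ≤ 3) g) 2 2 = 1 := by
  have h1 := Phan.emb_mulVec_lt hF (by norm_num : 0 + 2 ≤ 3) g (Pi.single 2 1) (x := 2) (Or.inr (by norm_num))
  rw [Matrix.mulVec_single_one, Pi.single_eq_same] at h1
  exact h1

theorem j3_inj (hF : Fintype.card F = q ^ 2) : Function.Injective (j3 hF : SU 2 F q →* PSU 3 F q) := by
  rw [injective_iff_map_eq_one]
  intro g hg
  have h1 : Phan.emb hF 0 (by norm_num : 0 + 2 ≤ 3) g ∈ center (SU 3 F q) := by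
    rw [← QuotientGroup.eq_one_iff]
    exact hg
  obtain ⟨c, hc, hc1⟩ := exists_norm_one hF
  apply Phan.emb_injective hF 0 (by norm_num : 0 + 2 ≤ 3)
  rw [map_one]
  apply Phan.mat_inj
  rw [Phan.mat_one]
  ext i j
  rcases eq_or_ne i j with rfl | hij
  · rw [Matrix.one_apply_eq]
    have h2 := diag_eq (le_refl 3) h1 i 2
    exact h2.trans (mat_emb_two hF g)
  · rw [Matrix.one_apply_ne hij]
    exact offdiag_eq_zero (le_refl 3) hc hc1 h1 hij

theorem j3_range (hF : Fintype.card F = q ^ 2) : (j3 hF : SU 2 F q →* PSU 3 F q).range ≠ ⊤ := by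
  intro h
  have hs : Equiv.Perm.sign (finRotate 3) = 1 := by decide
  have h1 : pr 3 F q (suPerm q (finRotate 3) hs) ∈ (j3 hF : SU 2 F q →* PSU 3 F q).range := by
    rw [h]; trivial
  obtain ⟨g, hg⟩ := h1
  have h2 : (suPerm q (finRotate 3) hs)⁻¹ * Phan.emb hF 0 (by norm_num : 0 + 2 ≤ 3) g ∈ center (SU 3 F q) :=
    QuotientGroup.eq.1 hg.symm
  obtain ⟨z, hz, hz1⟩ : ∃ z ∈ center (SU 3 F q), Phan.emb hF 0 (by norm_num : 0 + 2 ≤ 3) g =
      suPerm q (finRotate 3) hs * z := ⟨_, h2, by rw [mul_inv_cancel_left]⟩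
  obtain ⟨c, hc, hc1⟩ := exists_norm_one hF
  have h3 := mat_emb_two hF g
  rw [hz1, Phan.mat_mul, Matrix.mul_apply] at h3
  have h4 : ∀ i : Fin 3, i ≠ 2 → Phan.mat z i 2 = 0 := fun i hi => offdiag_eq_zero (le_refl 3) hc hc1 hz hi
  rw [Fin.sum_univ_three, h4 0 (by decide), h4 1 (by decide), mul_zero, mul_zero, zero_add, zero_add] at h3
  have h5 : Phan.mat (suPerm q (finRotate 3) hs : SU 3 F q) 2 2 = 0 := by
    show ((finRotate 3).permMatrix F) 2 2 = 0
    rw [Equiv.Perm.permMatrix, PEquiv.toMatrix_apply]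
    simp
  rw [h5, zero_mul] at h3
  exact zero_ne_one h3

/-- A field automorphism fixing all elements of norm one is trivial. -/
theorem eq_one_of_norm (hF : Fintype.card F = q ^ 2) {σ : F ≃+* F} (h : ∀ a : F, a ^ (q + 1) = 1 → σ a = a) (x : F) :
    σ x = x := by
  have hq : 2 ≤ q := LieClassical.HermBasic.two_le hF
  have key : ∀ x : F, (σ x) ^ q * x = x ^ q * σ x := by
    intro x
    by_cases hx : x = 0
    · rw [hx, map_zero, mul_zero]
    · have h1 : (x ^ (q - 1)) ^ (q + 1) = 1 := by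
        rw [← pow_mul]
        have h2 : (q - 1) * (q + 1) = Fintype.card F - 1 := by
          rw [hF]
          obtain ⟨k, rfl⟩ : ∃ k, q = k + 1 := ⟨q - 1, by omega⟩
          rw [Nat.add_sub_cancel]
          have : (k + 1) ^ 2 = k * (k + 1 + 1) + 1 := by ring
          rw [this, Nat.add_sub_cancel]
        rw [h2]
        exact FiniteField.pow_card_sub_one_eq_one x hx
      have h3 := h _ h1
      rw [map_pow] at h3
      have h4 : σ x ^ q = σ x ^ (q - 1) * σ x := by rw [← pow_succ]; congr 1; omega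
      have h5 : x ^ q = x ^ (q - 1) * x := by rw [← pow_succ]; congr 1; omega
      rw [h4, h5, h3]
      ring
  have key2 : ∀ x : F, x ^ q ≠ x → σ x = x := by
    intro x hx
    have hx0 : x ≠ 0 := by
      rintro rfl
      exact hx (LieClassical.HermBasic.zero_pow_q hF)
    have h1 := key x
    have h2 := key (1 + x)
    rw [map_add, map_one, LieClassical.HermBasic.add_pow_q hF, LieClassical.HermBasic.add_pow_q hF, one_pow] at h2
    have h3 : (x ^ q - x) * (σ x - x) = 0 := by linear_combination x * h2 - (1 + x) * h1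
    rcases mul_eq_zero.1 h3 with h4 | h4
    · exact absurd (sub_eq_zero.1 h4) hx
    · exact sub_eq_zero.1 h4
  by_cases hx : x ^ q = x
  · obtain ⟨y, hy⟩ := LieClassical.HermBasic.exists_not_fixed hF
    have h1 : (x + y) ^ q ≠ x + y := by
      rw [LieClassical.HermBasic.add_pow_q hF, hx]
      exact fun h => hy (add_left_cancel h)
    have h2 := key2 _ h1
    rw [map_add, key2 y hy] at h2
    exact add_right_cancel h2
  · exact key2 x hx

/-- **The groups `PSU₃(q)`.** -/
theorem triv_PSU3 (hF : Fintype.card F = q ^ 2) (hq2 : q ≠ 2) [Finite (PSU 3 F q)] [IsSimpleGroup (PSU 3 F q)]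
    (hna : ¬ IsMulCommutative (PSU 3 F q)) (h2 : 2 ∣ Nat.card (PSU 3 F q)) {τ : MulAut (PSU 3 F q)} (h : HH τ) :
    τ = 1 := by
  have hq : 2 ≤ q := LieClassical.HermBasic.two_le hF
  obtain ⟨ρ, hρ, -⟩ := H254.exists_ringAut F
  have hc := H254.PSUn.copIn hF (le_refl 3) (fun h => hq2 h.2) hna ρ hρ
  obtain ⟨g, hg⟩ := hc (zpowers τ) (by rw [Nat.card_zpowers]; exact h.1)
  have h3 : g * τ * g⁻¹ ∈ zpowers (H254.PSUn.fld 3 q ρ) := by
    apply hg
    exact ⟨τ, mem_zpowers τ, rfl⟩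
  obtain ⟨k, hk⟩ := h3
  have h4 : g * τ * g⁻¹ = H254.PSUn.fld 3 q (ρ ^ k) := by rw [map_zpow]; exact hk.symm
  have hh := h.conj g
  rw [h4] at hh
  have h5 : H254.PSUn.fld (F := F) 3 q (ρ ^ k) = 1 → τ = 1 := by
    intro h6
    rw [h6] at h4
    have h7 : τ = g⁻¹ * (g * τ * g⁻¹) * g := by group
    rw [h7, h4, mul_one, inv_mul_cancel]
  apply h5
  generalize ρ ^ k = σ at hh
  have h6 : σ = 1 := by
    rcases Nat.lt_or_ge q 4 with h7 | h7
    · have h8 : q = 3 := by omega
      subst h8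
      have h9 : Nat.card (F ≃+* F) = 2 := by
        have : Fact (Nat.Prime 3) := ⟨Nat.prime_three⟩
        exact Lib.FieldAutCard.card_ringAut (p := 3) (f := 2) (by norm_num) hF
      have h10 : orderOf σ ∣ 2 := by rw [← h9]; exact orderOf_dvd_natCard σ
      have h11 := hh.1
      rw [H254.PSUn.orderOf_eq hF (le_refl 3)] at h11
      have h12 := Nat.dvd_gcd h10 (h10.trans h2)
      have h13 := Nat.dvd_gcd (dvd_refl (orderOf σ)) (h10.trans h2)
      rw [h11] at h13
      exact orderOf_eq_one_iff.1 (Nat.dvd_one.1 h13)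
    · -- the subgroup `SU₂`
      have hK : Nat.card (Phan.fixedField hF) = q := Phan.card_fixedField hF
      obtain ⟨_, _, _, _, θ, _⟩ := Phan.exists_model hF
      have : Fintype (Phan.fixedField hF) := Fintype.ofFinite _
      have h8 : QS (j3 hF : SU 2 F q →* PSU 3 F q).range :=
        (qs_sl (by rw [← Nat.card_eq_fintype_card, hK]; omega)).congr (θ.trans (MonoidHom.ofInjective (j3_inj hF)))
      have h9 := hh.fix (j3_range hF) (by
        rintro _ ⟨g, rfl⟩
        rw [fld_j3]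
        exact ⟨_, rfl⟩) h8
      apply RingEquiv.ext
      intro x
      refine eq_one_of_norm hF ?_ x
      intro a ha
      have ha0 : a ≠ 0 := by
        rintro rfl
        rw [zero_pow (Nat.succ_ne_zero q)] at ha
        exact zero_ne_one ha
      have h10 := h9 _ ⟨suDiag q ![a, a⁻¹] (by simp [ha0]) (by
        intro i
        fin_cases i
        · exact ha
        · show (a⁻¹) ^ (q + 1) = 1
          rw [inv_pow, ha, inv_one]), rfl⟩
      rw [fld_j3] at h10
      have h11 := congrArg Phan.mat (j3_inj hF h10)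
      have h12 := congrFun (congrFun h11 0) 0
      exact h12
  rw [h6, map_one]

end Cfsg.Agent.H520
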