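import Mathlib
import Cfsg.Agent.H520.Cen
import Cfsg.Agent.CpAutRee.Ree
import Cfsg.Agent.S0222
import Cfsg.Agent.GH.EFrameAct

/-!
# Coprime automorphisms of the Ree groups `²G₂(q)` (helper520)

`triv_Ree` : a coprime automorphism `τ` of `²G₂(q)` with `[M, τ]` solvable for all proper invariant `M` is trivial.
-/

set_option autoImplicit false

namespace Cfsg.Agent.H520

open Cfsg Subgroup Cfsg.Agent.H566 Cfsg.Agent.Walter Cfsg.Agent.Walter.Types Cfsg.Agent.CpAutRee.Ree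

/-- An automorphism of order prime to `168` of an elementary abelian group of order `8` is trivial. -/
theorem aut_eight {V : Type*} [Group V] (hsq : ∀ v : V, v * v = 1) (hc : Nat.card V = 8) {β : MulAut V}
    (h : (orderOf β).Coprime 168) : β = 1 := by
  let _ : CommGroup V := { (inferInstance : Group V) with
    mul_comm := by
      intro a b
      have h1 := hsq (a * b)
      have h2 : ∀ c : V, c⁻¹ = c := fun c => (eq_inv_of_mul_eq_one_left (hsq c)).symm
      have h3 := eq_inv_of_mul_eq_one_left h1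
      rw [mul_inv_rev, h2, h2] at h3
      exact h3 }
  have h1 := GH.EFrameAct.card_mulAut_eight (V := V) (fun x => by rw [sq]; exact hsq x) hc
  have h2 : orderOf β ∣ 168 := by
    rw [← h1]
    exact orderOf_dvd_natCard β
  have h3 := Nat.dvd_gcd (dvd_refl (orderOf β)) h2
  rw [h] at h3
  exact orderOf_eq_one_iff.1 (Nat.dvd_one.1 h3)

/-- **The Ree groups.** -/
theorem triv_Ree {K : Type} [Field K] [Fintype K] {m : ℕ} (hm : 1 ≤ m) (hK : Fintype.card K = 3 ^ (2 * m + 1))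
    {τ : MulAut ↥(Cfsg.Lie.twistedG2 K (3 ^ m))} (h : HH τ) : τ = 1 := by
  classical
  have h2 : Fact (Nat.Prime 2) := ⟨Nat.prime_two⟩
  obtain ⟨hsimp, hc⟩ := Cfsg.Agent.S1073.result hm hK
  have hna : ∃ a b : ↥(Cfsg.Lie.twistedG2 K (3 ^ m)), a * b ≠ b * a := by
    by_contra hcon
    push Not at hcon
    exact hc ⟨⟨hcon⟩⟩
  obtain ⟨a, haH, ha1, ha2⟩ := Cfsg.Agent.S1157.exists_involution hK
  obtain ⟨⟨e⟩, hS⟩ := Cfsg.Agent.S1152.result hK a haH ha1 ha2
  have hao : orderOf a = 2 := orderOf_eq_prime (by rw [sq, ha2]) ha1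
  have hq8 := pow_mod_eight m
  have hq27 : 27 ≤ 3 ^ (2 * m + 1) := by
    calc 27 = 3 ^ 3 := by norm_num
      _ ≤ 3 ^ (2 * m + 1) := Nat.pow_le_pow_right (by norm_num) (by omega)
  have hJ : IsJR ↥(Cfsg.Lie.twistedG2 K (3 ^ m)) := by
    refine ⟨⟨default, hS default⟩, K, inferInstance, inferInstance, Or.inl (by rw [hK, hq8]), by rw [hK]; omega, ?_⟩
    intro t ht
    obtain ⟨g, rfl⟩ := exists_conj hna hS hao ht
    obtain ⟨f⟩ := cent_conj a g
    exact ⟨f.symm.trans e⟩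
  have hB : AutFacts.Bender ↥(Cfsg.Lie.twistedG2 K (3 ^ m)) := fun M hM => Cfsg.Agent.S0222.result hna M hM
  have hco : (Nat.card (zpowers τ)).Coprime (Nat.card ↥(Cfsg.Lie.twistedG2 K (3 ^ m))) := by
    rw [Nat.card_zpowers]
    exact h.1
  obtain ⟨P, hP⟩ := exists_sylow_stab (A := zpowers τ) hco inferInstance 2
  rw [stab_zpowers] at hP
  obtain ⟨f1, f2, f3⟩ := PSLFacts.IsJR.facts hJ P
  have h168 : 168 ∣ Nat.card ↥(Cfsg.Lie.twistedG2 K (3 ^ m)) := by
    have h3 := (Cfsg.Agent.S1157.result hm hK P).2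
    exact ⟨_, (by rw [← h3]; exact (card_mul_index _).symm)⟩
  have h6 : (orderOf τ).Coprime 168 := Nat.Coprime.coprime_dvd_right h168 h.1
  have hPfix : ∀ s ∈ (P : Subgroup ↥(Cfsg.Lie.twistedG2 K (3 ^ m))), τ s = s := by
    have h3 : resA τ (P : Subgroup ↥(Cfsg.Lie.twistedG2 K (3 ^ m))) hP = 1 := by
      refine aut_eight (V := (P : Subgroup ↥(Cfsg.Lie.twistedG2 K (3 ^ m)))) (fun v => Subtype.ext (f1 v v.2)) f2 ?_
      exact Nat.Coprime.coprime_dvd_left (orderOf_resA_dvd τ _ hP) h6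
    intro s hs
    exact congrArg (fun x : MulAut (P : Subgroup ↥(Cfsg.Lie.twistedG2 K (3 ^ m))) => ((x ⟨s, hs⟩ : _) :
      ↥(Cfsg.Lie.twistedG2 K (3 ^ m)))) h3
  obtain ⟨s, hs, hs1⟩ : ∃ s ∈ (P : Subgroup ↥(Cfsg.Lie.twistedG2 K (3 ^ m))), s ≠ 1 := by
    by_contra hcon
    push Not at hcon
    have h3 : (P : Subgroup ↥(Cfsg.Lie.twistedG2 K (3 ^ m))) = ⊥ := by
      rw [eq_bot_iff]
      exact fun x hx => mem_bot.2 (hcon x hx)
    rw [h3, card_bot] at f2
    omega
  have hso : orderOf s = 2 := orderOf_eq_prime (by rw [sq, f1 s hs]) hs1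
  obtain ⟨g, hg⟩ := exists_conj hna hS hao hso
  obtain ⟨f⟩ := cent_conj a g
  rw [hg] at f
  have hPs : IsSimpleGroup (Matrix.ProjectiveSpecialLinearGroup (Fin 2) K) :=
    TwoFusion.SLTwoFacts.isSimpleGroup_psl (by rw [hK]; omega)
  have hqs : QS (centralizer ({s} : Set ↥(Cfsg.Lie.twistedG2 K (3 ^ m)))) :=
    (qs_prod (A := Multiplicative (ZMod 2)) (S := Matrix.ProjectiveSpecialLinearGroup (Fin 2) K)
      (GTwoRows.not_comm_psl (by rw [hK]; omega)) (by simp)).congr (e.symm.trans f)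
  have hne : centralizer ({s} : Set ↥(Cfsg.Lie.twistedG2 K (3 ^ m))) ≠ ⊤ := by
    intro h3
    have h4 : s ∈ center ↥(Cfsg.Lie.twistedG2 K (3 ^ m)) := by
      rw [mem_center_iff]
      intro x
      exact mem_centralizer_singleton_iff.1 (by rw [h3]; trivial)
    rcases (inferInstance : (center ↥(Cfsg.Lie.twistedG2 K (3 ^ m))).Normal).eq_bot_or_eq_top with h5 | h5
    · rw [h5] at h4
      exact hs1 h4
    · obtain ⟨x, y, hxy⟩ := hna
      exact hxy (mem_center_iff.1 (by rw [h5]; trivial) x)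
  have hfix := h.fix hne (fun x hx => by
    rw [mem_centralizer_singleton_iff] at hx ⊢
    have h3 := congrArg τ hx
    rw [map_mul, map_mul, hPfix s hs] at h3
    exact h3) hqs
  have hodd : Odd (orderOf τ) := by
    rw [← Nat.coprime_two_right]
    exact Nat.Coprime.coprime_dvd_right ⟨84, by norm_num⟩ h6
  exact AutFacts.aut_eq_one hB hna P f1 (by rw [f2]; norm_num) f3 hs hs1 τ hodd hfix

end Cfsg.Agent.H520
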