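import Mathlib
import Cfsg.Agent.H520.Glob
import Cfsg.Agent.H566.TwFour

/-!
# The groups `²F₄(q)` (helper520)
-/

set_option autoImplicit false
set_option linter.unusedSectionVars false

namespace Cfsg.Agent.H520

open Cfsg.Lie Cfsg.Agent.H566
open Cfsg.Agent.ChevalleyStructure.TwF4.Rel
open Cfsg.Agent.ChevalleyStructure.TwF4.Groups Cfsg.Agent.ChevalleyStructure.TwF4.RankOne
open Cfsg.Agent.ChevalleyStructure.TwF4.Twisted Cfsg.Agent.ChevalleyStructure.TwF4.TwistedFix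
open Cfsg.Agent.ChevalleyStructure.TwF4.BN
open Cfsg.Agent.ChevalleyStructure.TwF4.Torus (T chi T_conj_X T_inr)
open Cfsg.Agent.ChevalleyStructure.TwF4.TwGen (tc chi_tc_24 chi_tc_25 chi_tc_33 chi_tc_27 chi28 chi30 pow_all)
open Cfsg.Agent.ChevalleyStructure.TwF4.TorusFix (mem_iff pow_unit T_rt rt)
open Cfsg.Agent.ChevalleyStructure.TwF4.Fix (Fix)
open Cfsg.Agent.Schreier.Basic Cfsg.Agent.Schreier.Tools Cfsg.Agent.Schreier.BNSch Cfsg.Agent.Schreier.BNUse
open Cfsg.Agent.Schreier.TwFFour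

theorem node_le {K : Type*} [Group K] {P : Cfsg.BNPair K} {U : Subgroup K} (hUB : U ≤ P.B) {s : K} {V V' : Subgroup K}
    (h : Node P U s V) (h' : Node P U s V') : V' ≤ V := fun v hv =>
  h.stab v (h'.le hv) (hUB (h'.le (h'.conj_s v hv)))

theorem triv_twF4 {K : Type*} [Field K] [Fintype K] {m : ℕ} (hK : Fintype.card K = 2 ^ (2 * m + 1))
    [Finite ↥(twistedF4 K (2 ^ m))] [IsSimpleGroup ↥(twistedF4 K (2 ^ m))] (h2 : 2 ∣ Nat.card ↥(twistedF4 K (2 ^ m)))
    {τ : MulAut ↥(twistedF4 K (2 ^ m))} (hτ : HH τ) : τ = 1 := by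
  have : CharP K 2 := charP_two hK
  have : Fact (Nat.Prime 2) := ⟨Nat.prime_two⟩
  obtain ⟨φ, hφ⟩ := exists_rln hK
  obtain ⟨P, hPB, hPN, hPS⟩ := exists_bnPair hφ
  have hB : P.B = B0 K (2 ^ m) := hPB
  have hdec := dec hK hφ
  have hUp := isPGroup_U0 hK
  have hone : ∀ i : Fin 2, (twistedData hφ).nG i ∈ P.S := fun i => by rw [hPS]; exact ⟨i, rfl⟩
  have hUB : U0 K (2 ^ m) ≤ P.B := by rw [hB]; exact U0_le_B0
  have hne : (twistedData hφ).nG 0 ≠ (twistedData hφ).nG 1 := by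
    intro he
    have h2' : Node P (U0 K (2 ^ m)) ((twistedData hφ).nG 0) (V8 K (2 ^ m)) := by
      rw [he]
      exact node2 hφ hB
    have h1 := node_le hUB (Cfsg.Agent.Schreier.TwFFour.node1 hφ hB) h2'
    have h3 : (⟨xa (2 ^ m) 1, xa_mem 1⟩ : ↥(twistedF4 K (2 ^ m))) ∈ V8 K (2 ^ m) := by
      show xa (2 ^ m) (1 : K) ∈ GA K (leB 7)
      refine GA_mono ?_ (xa_pos (2 ^ m) 1)
      intro r hr h
      have h4 := cls_pos (k := 1) (by norm_num) r hr h
      have h5 : cls r = 1 := of_decide_eq_true h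
      unfold leB
      simp [h4, h5]
    have h6 := h1 h3
    exact one_ne_zero (xa_ge2 hφ.pos.ne' h6)
  refine rBN P (p := 2) (U0 K (2 ^ m)) hUp hUB ?_ ?_ (2 ^ (2 * m + 1) - 1) ?_ ?_ ?_ ⟨_, hone 0⟩ ?_ ?_ ?_ hτ
  · intro b hb u hu
    rw [hB] at hb
    exact conj_U0 hb hu
  · intro b hb
    rw [hB] at hb
    obtain ⟨s, t, u, hu, hbu⟩ := hdec.1 b hb
    refine ⟨u, hu, ?_⟩
    rw [hPN, Subgroup.mem_subgroupOf, Subgroup.coe_mul, Subgroup.coe_inv, hbu, inv_mul_cancel_left]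
    exact Cfsg.Agent.ChevalleyStructure.TwF4.NStruct.T_mem_N _
  · have h1 : 2 ∣ 2 ^ (2 * m + 1) := dvd_pow_self 2 (by omega)
    have h2 : 0 < 2 ^ (2 * m + 1) := by positivity
    omega
  · intro h hh hN
    rw [hPB, Subgroup.mem_subgroupOf] at hh
    rw [hPN, Subgroup.mem_subgroupOf] at hN
    have h1 := borel_inf_N ⟨hh, hN⟩
    obtain ⟨s, t, hst⟩ := (mem_iff hK (h : GL chevF4.Idx K)).1 ⟨h1, h.2⟩
    apply Subtype.ext
    rw [Subgroup.coe_pow, hst, ← map_pow]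
    have h2 : tc (2 ^ m) s t ^ (2 ^ (2 * m + 1) - 1) = 1 := by
      have h3 : ∀ x : Kˣ, x ^ (2 ^ (2 * m + 1) - 1) = 1 := by
        intro x
        have h4 := pow_card_eq_one' (x := x)
        rwa [Nat.card_units, Nat.card_eq_fintype_card, hK] at h4
      funext l
      rw [Pi.pow_apply, h3]; rfl
    rw [h2, map_one]; rfl
  · intro s hs
    rw [hPS] at hs
    obtain ⟨i, rfl⟩ := hs
    have hi : i = 0 ∨ i = 1 := by
      revert i; decide
    rcases hi with rfl | rfl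
    · exact ⟨V1 K (2 ^ m), Cfsg.Agent.Schreier.TwFFour.node1 hφ hB⟩
    · exact ⟨V8 K (2 ^ m), node2 hφ hB⟩
  · intro s hs
    rw [hPS] at hs
    obtain ⟨i, rfl⟩ := hs
    have hi : i = 0 ∨ i = 1 := by
      revert i; decide
    rcases hi with rfl | rfl
    · exact ⟨_, hone 1, hne⟩
    · exact ⟨_, hone 0, hne.symm⟩
  · intro τ _
    rw [show 2 - 1 = 1 from rfl]
    exact Nat.coprime_one_right _
  · intro τ hτ hB' s hs
    have hc : (Nat.card (Subgroup.zpowers τ)).Coprime (Nat.card ↥(twistedF4 K (2 ^ m))) := by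
      rw [Nat.card_zpowers]
      exact hτ.1
    rw [← stab_zpowers]
    refine stab_of_card_le_two P ?_ (odd_of_coprime hc h2) (stab_zpowers.2 hB') hs
    rw [hPS]
    have : Nat.card (Set.range (twistedData hφ).nG) ≤ Nat.card (Fin 2) :=
      Nat.card_le_card_of_surjective (Set.rangeFactorization _) Set.rangeFactorization_surjective
    rwa [Nat.card_fin] at this

end Cfsg.Agent.H520
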