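import Mathlib
import Cfsg.Agent.H520.Fam
import Cfsg.Agent.H520.TwF
import Cfsg.Agent.H520.PsuThree
import Cfsg.Agent.H520.ReeT
import Cfsg.Agent.H520.SzT
import Cfsg.Agent.ThreePrime.Main

/-!
# Coprime automorphisms of the simple groups of Lie type (helper520)

`Triv G` : a coprime automorphism `τ` of `G` with `[M, τ]` solvable for all proper invariant subgroups `M` and with all
`⟨g⁻¹ τ(g), h⁻¹ τ(h)⟩` solvable is trivial.
`triv_of_lie`, `triv_of_three` : the simple groups of Lie type of order divisible by three, the groups of order prime to three.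
-/

set_option autoImplicit false

namespace Cfsg.Agent.H520

open Cfsg

/-- no nontrivial coprime automorphism with solvable pairs -/
def Triv (G : Type*) [Group G] : Prop := ∀ τ : MulAut G, HH τ → PP τ → τ = 1

theorem Triv.congr {G H : Type*} [Group G] [Group H] (e : G ≃* H) (h : Triv G) : Triv H := by
  intro τ h1 h2
  have h3 := h (MulAut.congr e.symm τ) (h1.congr e.symm) (h2.congr e.symm)
  rw [← map_one (MulAut.congr e.symm)] at h3
  exact (MulAut.congr e.symm).injective h3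

theorem triv_of_model {G M : Type*} [Group G] [Group M] [Finite G] [IsSimpleGroup G] (hna : ¬ IsMulCommutative G)
    (h2 : 2 ∣ Nat.card G) (h3 : 3 ∣ Nat.card G) (e : G ≃* M)
    (h : Finite M → IsSimpleGroup M → ¬ IsMulCommutative M → 2 ∣ Nat.card M → 3 ∣ Nat.card M → Triv M) : Triv G := by
  have h1 : Finite M := Finite.of_equiv G e.toEquiv
  have h5 : IsSimpleGroup M := e.symm.isSimpleGroup
  refine (h h1 h5 ?_ (by rwa [← Nat.card_congr e.toEquiv]) (by rwa [← Nat.card_congr e.toEquiv])).congr e.symm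
  intro hc
  apply hna
  refine ⟨⟨fun a b => e.injective ?_⟩⟩
  rw [map_mul, map_mul]
  exact hc.is_comm.comm _ _

theorem triv_of_rgdr {G M : Type*} [Group G] [Group M] [Finite G] [IsSimpleGroup G] (hna : ¬ IsMulCommutative G)
    (h2 : 2 ∣ Nat.card G) (h3 : 3 ∣ Nat.card G) (e : G ≃* M) {p : ℕ} (hp : p.Prime) (h : HasRGDR p M) : Triv G :=
  triv_of_model hna h2 h3 e fun _ _ _ h2 h3 _ hτ _ => h.triv hp h2 h3 hτ

/-- `3` does not divide the order of a Suzuki group -/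
theorem not_three_sz {G : Type*} [Group G] (h : Lie.IsoSuzuki G) : ¬ 3 ∣ Nat.card G := by
  obtain ⟨F, _, _, m, hm, hF, ⟨e⟩⟩ := h
  rw [Nat.card_congr (e.trans (szE hm hF).symm).toEquiv]
  have hfin := H98.SzBasic.finite_ovoid F m
  exact (LieExceptional.SuzukiHyp.hyp hm hF).three_not_dvd

/-- **The groups of Lie type of order divisible by three.** -/
theorem triv_of_lie {G : Type*} [Group G] [Finite G] [IsSimpleGroup G] (hna : ¬ IsMulCommutative G)
    (h2 : 2 ∣ Nat.card G) (h3 : 3 ∣ Nat.card G) {p : ℕ} (hp : p.Prime) (h : IsLieTypeChar p G) : Triv G := by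
  have hpf : Fact p.Prime := ⟨hp⟩
  rcases h with h | h | h | h | h | h | h | h | ⟨-, h⟩ | ⟨-, h⟩ | ⟨-, h⟩
  · obtain ⟨F, _, _, _, n, hn, h4, ⟨e⟩⟩ := h
    rcases Nat.lt_or_ge n 3 with h5 | h5
    · obtain rfl : n = 2 := by omega
      exact triv_of_model hna h2 h3 e fun _ _ hna h2 h3 τ hτ hP => triv_PSL2 (h4 rfl) hna h2 h3 hτ.1 hP
    · obtain ⟨n, rfl⟩ : ∃ k, n = k + 1 := ⟨n - 1, by omega⟩
      exact triv_of_rgdr hna h2 h3 e hp (rgdr_PSL n (by omega))
  · obtain ⟨F, _, _, _, m, hm, -, ⟨e⟩⟩ := h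
    exact triv_of_rgdr hna h2 h3 e hp (rgdr_PSp hm)
  · obtain ⟨F, _, _, _, n, q, hF, hn, h32, ⟨e⟩⟩ := h
    rcases Nat.lt_or_ge n 4 with h4 | h4
    · obtain rfl : n = 3 := by omega
      exact triv_of_model hna h2 h3 e fun _ _ hna h2 _ τ hτ _ =>
        triv_PSU3 hF (fun h => h32 ⟨rfl, h⟩) hna h2 hτ
    · exact triv_of_rgdr hna h2 h3 e hp (rgdr_PSU hF h4)
  · obtain ⟨F, _, _, _, m, hm, hodd, ⟨e⟩⟩ := h
    have h20 : (2 : F) ≠ 0 := by
      intro h20
      have h3 : CharP F 2 := CharTwo.of_one_ne_zero_of_two_eq_zero one_ne_zero h20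
      obtain ⟨n, -, hn⟩ := FiniteField.card F 2
      rw [hn] at hodd
      exact absurd hodd (by
        rw [Nat.not_odd_iff_even]
        exact even_two.pow_of_ne_zero n.ne_zero)
    exact triv_of_rgdr hna h2 h3 e hp (rgdr_PO_odd h20 (by omega))
  · obtain ⟨F, _, _, _, m, hm, ⟨e⟩⟩ := h
    obtain ⟨n, rfl⟩ : ∃ n, m = n + 4 := ⟨m - 4, by omega⟩
    exact triv_of_rgdr hna h2 h3 e hp (rgdr_PO_plus n)
  · obtain ⟨F, _, _, _, m, a, b, hm, hab, ⟨e⟩⟩ := h
    exact triv_of_rgdr hna h2 h3 e hp (rgdr_PO_minus hab (by omega))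
  · exact triv_of_rgdr hna h2 h3 (MulEquiv.refl G) hp (rgdr_of_exc h)
  · exact triv_of_rgdr hna h2 h3 (MulEquiv.refl G) hp (rgdr_of_tw h)
  · exact absurd h3 (not_three_sz h)
  · obtain ⟨K, i1, i2, m, hm, hK, ⟨e⟩⟩ := h
    exact triv_of_model hna h2 h3 e fun _ _ _ h2 _ τ hτ _ => triv_twF4 hK h2 hτ
  · obtain ⟨K, i1, i2, m, hm, hK, ⟨e⟩⟩ := h
    exact triv_of_model hna h2 h3 e fun _ _ _ _ _ τ hτ _ => triv_Ree hm hK hτ

/-- **The groups of order prime to three.** -/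
theorem triv_of_three {G : Type*} [Group G] [Finite G] [IsSimpleGroup G] (hna : ∃ a b : G, a * b ≠ b * a)
    (h3 : ¬ 3 ∣ Nat.card G) : Triv G := by
  obtain ⟨F, _, _, m, hm, hF, ⟨e⟩⟩ := ThreePrime.Main.isoSuzuki hna h3
  have h1 : Triv ↥(Cfsg.Sz F m) := fun τ hτ hP => triv_Sz hm hF hτ.1 hP
  exact h1.congr ((szE hm hF).trans e.symm)

end Cfsg.Agent.H520
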