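import Cfsg.Agent.ClassicalGeometry.SympAutForm
import Cfsg.Agent.ClassicalGeometry.SympAutExists
import Cfsg.Agent.ClassicalGeometry.SympAutSylow

/-!
# `PSp_4(q)`, `q` odd: the centraliser of a Sylow subgroup in the characteristic (helper520, S4114)

* `exists_bad` : an element centralising `C(U)` and not normalising the Sylow subgroup `U`.
-/

set_option autoImplicit false
set_option linter.unusedSectionVars false

namespace Cfsg.Agent.H520.SpOdd

open Cfsg
open Cfsg.Agent.ClassicalGeometry.SympBasic Cfsg.Agent.ClassicalGeometry.SympSiegel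
  Cfsg.Agent.ClassicalGeometry.SympAutExists Cfsg.Agent.ClassicalGeometry.SympAutCentral
  Cfsg.Agent.ClassicalGeometry.SympAutForm Cfsg.Agent.ClassicalGeometry.SympAutSylow

variable {F : Type*} [Field F]

local notation "G" => Matrix.symplecticGroup (Fin 2) F
local notation "V" => (Fin 2 ⊕ Fin 2 → F)
local notation "f" => sympForm 2 F

/-- `e₂ ↦ f₂`, of order four -/
noncomputable def w (F : Type*) [Field F] : Matrix.symplecticGroup (Fin 2) F :=
  transv (E F 1) 1 * transv (E' F 1) 1 * transv (E F 1) 1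

theorem form_E_E' : f (E F 1) (E' F 1) = -1 := by
  rw [form_E_left, E'_inr, if_pos rfl]

theorem form_E'_E : f (E' F 1) (E F 1) = 1 := by
  rw [sympForm_swap, form_E_E', neg_neg]

theorem w_smul (x : V) : w F • x = x + (f x (E F 1) + f x (E' F 1)) • E F 1 + (f x (E' F 1) - f x (E F 1)) • E' F 1 := by
  unfold w
  rw [mul_smul, mul_smul, transv_smul, transv_smul, transv_smul]
  simp only [sympForm_add_left, sympForm_smul_left, sympForm_self, form_E_E', form_E'_E]
  module

theorem w_E : w F • (E F 1 : V) = - E' F 1 := by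
  rw [w_smul, sympForm_self, form_E_E']
  module

theorem w_E' : w F • (E' F 1 : V) = E F 1 := by
  rw [w_smul, sympForm_self, form_E'_E]
  module

theorem w_pow (x : V) : w F ^ 4 • x = x := by
  have h1 : ∀ x : V, w F • (w F • x) = x + (2 * f x (E' F 1)) • E F 1 - (2 * f x (E F 1)) • E' F 1 := by
    intro x
    rw [w_smul x, smul_add', smul_add', smul_smul', smul_smul', w_E, w_E', w_smul x]
    module
  have h2 : w F ^ 4 = w F * w F * (w F * w F) := by
    rw [show (4 : ℕ) = 2 + 2 from rfl, pow_add, pow_two]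
  rw [h2, mul_smul, mul_smul (w F) (w F) x, mul_smul, h1 x, h1]
  simp only [sympForm_add_left, sympForm_sub_left, sympForm_smul_left, sympForm_self, form_E_E', form_E'_E]
  module

theorem w_E0 : w F • (E F 0 : V) = E F 0 := by
  have h1 : f (E F 0) (E F 1) = 0 := by rw [form_E_left, E_inr, neg_zero]
  have h2 : f (E F 0) (E' F 1) = 0 := by rw [form_E_left, E'_inr, if_neg (by decide), neg_zero]
  rw [w_smul, h1, h2]
  module

theorem pr_w_ne : (pr (w F) : PSp 2 F) ≠ 1 := by
  intro h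
  have h1 : w F ∈ Subgroup.center G := (QuotientGroup.eq_one_iff _).1 h
  obtain ⟨a, ha⟩ := smul_of_mem_center h1
  have h2 := ha (E F 1)
  rw [w_E] at h2
  have h3 := congrFun h2 (Sum.inr 1)
  rw [Pi.neg_apply, Pi.smul_apply, E_inr, E'_inr, if_pos rfl, smul_zero] at h3
  exact neg_ne_zero.2 one_ne_zero h3

variable [Finite F] {p : ℕ} [Fact p.Prime] [CharP F p]

theorem exists_std (h2 : p ≠ 2) : ∃ U : Sylow p (PSp 2 F),
    (∀ z : PSp 2 F, (∀ u ∈ (U : Subgroup (PSp 2 F)), u * z = z * u) → z * pr (transv (E' F 1) 1) = pr (transv (E' F 1) 1) * z) ∧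
      (pr (transv (E' F 1) 1) : PSp 2 F) ∉ Subgroup.normalizer ((U : Subgroup (PSp 2 F)) : Set (PSp 2 F)) := by
  have hfin : Finite G := Subtype.finite
  have hfin' : Finite (PSp 2 F) := Quotient.finite _
  have h20 : (2 : F) ≠ 0 := by
    intro h
    have h3 : ((2 : ℕ) : F) = 0 := by exact_mod_cast h
    rw [CharP.cast_eq_zero_iff F p] at h3
    exact h2 ((Nat.prime_dvd_prime_iff_eq Fact.out Nat.prime_two).1 h3)
  have h1 : IsPGroup p ((unip 2 F).map (QuotientGroup.mk' (Subgroup.center G))) := (isPGroup_unip (p := p)).map _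
  obtain ⟨U, hU⟩ := h1.exists_le_sylow
  have hun : ∀ u ∈ unip 2 F, (pr u : PSp 2 F) ∈ (U : Subgroup (PSp 2 F)) := fun u hu => hU ⟨u, hu, rfl⟩
  refine ⟨U, fun z hz => ?_, fun hN => ?_⟩
  · obtain ⟨z, rfl⟩ := pr_surj z
    obtain ⟨a, b, hb, hab⟩ := central_form (le_refl 2) (z := z) fun u hu => hz _ (hun u hu)
    have hb0 : b = 0 := (mul_eq_zero.1 hb).resolve_left h20
    have hab' : (pr z : PSp 2 F) = pr (transv (E F 0) (-a)) := by
      refine hab.trans ?_
      rw [hb0, zero_smul, siegel_zero_eq_transv]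
      rfl
    rw [hab', ← pr_mul, ← pr_mul]
    congr 1
    have h3 := conj_transv (transv (E F (0 : Fin 2)) (-a)) (E' F 1) 1
    have h4 : transv (E F (0 : Fin 2)) (-a) • (E' F 1 : V) = E' F 1 := by
      rw [transv_smul]
      have : f (E' F 1) (E F 0) = 0 := by rw [form_E_right, E'_inr, if_neg (by decide)]
      rw [this, mul_zero, zero_smul, add_zero]
    rw [h4] at h3
    exact mul_inv_eq_iff_eq_mul.1 h3
  · -- the transvection lies in `U`
    have hp1 : IsPGroup p (Subgroup.zpowers (pr (transv (E' F 1) 1) : PSp 2 F)) := by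
      refine IsPGroup.of_card (n := 1) ?_
      rw [Nat.card_zpowers, pow_one]
      refine orderOf_eq_prime ?_ ?_
      · rw [← pr_pow, transv_pow_char, pr_one]
      · intro h
        have h3 : transv (E' F (1 : Fin 2)) (1 : F) ∈ Subgroup.center G := (QuotientGroup.eq_one_iff _).1 h
        obtain ⟨a, ha⟩ := smul_of_mem_center h3
        have h4 := ha (E F 1)
        rw [transv_smul, form_E_E'] at h4
        have h5 := congrFun h4 (Sum.inr 1)
        rw [Pi.add_apply, Pi.smul_apply, Pi.smul_apply, E_inr, E'_inr, if_pos rfl, smul_zero] at h5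
        simp at h5
    have h4 : (pr (transv (E' F 1) 1) : PSp 2 F) ∈ (U : Subgroup (PSp 2 F)) := by
      have h5 : (pr (transv (E' F 1) 1) : PSp 2 F) ∈ Subgroup.zpowers (pr (transv (E' F 1) 1) : PSp 2 F) ⊓
        Subgroup.normalizer (U : Set (PSp 2 F)) := ⟨Subgroup.mem_zpowers _, hN⟩
      rw [hp1.inf_normalizer_sylow U] at h5
      exact h5.2
    have h5 : (pr (transv (E F 1) 1) : PSp 2 F) ∈ (U : Subgroup (PSp 2 F)) := hun _ (transv_mem_unip (fun i => E_inr 1 i) 1)
    have h6 : (pr (w F) : PSp 2 F) ∈ (U : Subgroup (PSp 2 F)) := mul_mem (mul_mem h5 h4) h5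
    obtain ⟨k, hk⟩ := U.isPGroup' ⟨_, h6⟩
    have hk' : (pr (w F) : PSp 2 F) ^ p ^ k = 1 := congrArg Subtype.val hk
    have h7 : (pr (w F) : PSp 2 F) ^ 4 = 1 := by
      have h8 : w F ^ 4 = 1 := ext_smul fun v => by rw [w_pow, one_smul]
      rw [← pr_pow, h8, pr_one]
    have h8 : orderOf (pr (w F) : PSp 2 F) ∣ 1 := by
      have hc : Nat.Coprime (p ^ k) 4 := by
        apply Nat.Coprime.pow_left
        rw [show 4 = 2 ^ 2 by norm_num]
        apply Nat.Coprime.pow_right
        exact (Nat.coprime_primes Fact.out Nat.prime_two).2 h2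
      rw [← hc]
      exact Nat.dvd_gcd (orderOf_dvd_of_pow_eq_one hk') (orderOf_dvd_of_pow_eq_one h7)
    exact pr_w_ne (orderOf_eq_one_iff.1 (Nat.dvd_one.1 h8))

/-- **An element centralising `C(U)` and not normalising `U`.** -/
theorem exists_bad (h2 : p ≠ 2) (U : Sylow p (PSp 2 F)) : ∃ y : PSp 2 F,
    (∀ z : PSp 2 F, (∀ u ∈ (U : Subgroup (PSp 2 F)), u * z = z * u) → z * y = y * z) ∧
      y ∉ Subgroup.normalizer ((U : Subgroup (PSp 2 F)) : Set (PSp 2 F)) := by
  have hfin : Finite G := Subtype.finite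
  have hfin' : Finite (PSp 2 F) := Quotient.finite _
  obtain ⟨U', h1, h3⟩ := exists_std (F := F) h2
  obtain ⟨g, rfl⟩ := MulAction.exists_smul_eq (PSp 2 F) U' U
  have hm : ∀ {u : PSp 2 F}, u ∈ ((g • U' : Sylow p (PSp 2 F)) : Subgroup (PSp 2 F)) ↔ g⁻¹ * u * g ∈ (U' : Subgroup (PSp 2 F)) := by
    intro u
    rw [Sylow.coe_subgroup_smul, Subgroup.mem_pointwise_smul_iff_inv_smul_mem, ← map_inv, MulAut.smul_def,
      MulAut.conj_apply, inv_inv]
  refine ⟨g * pr (transv (E' F 1) 1) * g⁻¹, fun z hz => ?_, fun hN => h3 ?_⟩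
  · have h4 := h1 (g⁻¹ * z * g) fun u hu => by
      have h5 := hz (g * u * g⁻¹) (hm.2 (by
        have : g⁻¹ * (g * u * g⁻¹) * g = u := by group
        rw [this]; exact hu))
      calc u * (g⁻¹ * z * g) = g⁻¹ * ((g * u * g⁻¹) * z) * g := by group
        _ = g⁻¹ * (z * (g * u * g⁻¹)) * g := by rw [h5]
        _ = g⁻¹ * z * g * u := by group
    calc z * (g * pr (transv (E' F 1) 1) * g⁻¹) = g * ((g⁻¹ * z * g) * pr (transv (E' F 1) 1)) * g⁻¹ := by group
      _ = g * (pr (transv (E' F 1) 1) * (g⁻¹ * z * g)) * g⁻¹ := by rw [h4]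
      _ = _ := by group
  · rw [Subgroup.mem_normalizer_iff] at hN ⊢
    intro u
    have h5 := hN (g * u * g⁻¹)
    rw [hm, hm] at h5
    have e1 : g⁻¹ * (g * u * g⁻¹) * g = u := by group
    have e2 : g⁻¹ * (g * pr (transv (E' F 1) 1) * g⁻¹ * (g * u * g⁻¹) * (g * pr (transv (E' F 1) 1) * g⁻¹)⁻¹) * g =
      pr (transv (E' F 1) 1) * u * (pr (transv (E' F 1) 1))⁻¹ := by group
    rw [e1, e2] at h5
    exact h5

end Cfsg.Agent.H520.SpOdd
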