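import Cfsg.Agent.H520.CcpLie0
import Cfsg.Agent.H520.CcpSpA

/-!
# `PSp_4(q)`, `q` odd, has no automorphism interchanging the two classes of maximal parabolic subgroups (helper520, S4114)

* `above` : the subgroups above the stabiliser of a fixed chamber invariant under an automorphism which preserves no
  nontrivial set of nodes;
* `no_swap` : an automorphism of `PSp_4(q)`, `q` odd, fixing a chamber is type preserving.
-/

set_option autoImplicit false
set_option linter.unusedSectionVars false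

open scoped Pointwise

namespace Cfsg.Agent.H520.SpOdd

open Cfsg Cfsg.Agent.LieExceptional.BNPairCore Cfsg.Agent.Tits.Core Cfsg.Agent.Tits.Core.Bldg Cfsg.Agent.Tits.OfBN
  Cfsg.Agent.Tits.OppRes CoxeterSystem Cfsg.Agent.ChevalleyStructure.CoxeterGeom Cfsg.Agent.Tits.Roots
open Cfsg.Agent.FixOdd (Tw)
open Cfsg.Agent.FixBN.OfBN
open Cfsg.Agent.H460.Engine
open Cfsg.Agent.H694 (PJ mem_PJ)

section Over

variable {K : Type*} [Group K] [Finite K] {P : Cfsg.BNPair K} [hN : ((P.B ⊓ P.N).subgroupOf P.N).Normal] {l : ℕ}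
  {M : CoxeterMatrix (Fin l)} (e : Fin l ≃ P.S) (cs : CoxeterSystem M (WP P))
  (hcs : ∀ i, cs.simple i = QuotientGroup.mk (⟨(e i : K), P.subset (e i).2⟩ : P.N)) [hC : Cox cs]

/-- **Invariant subgroups above the stabiliser of a fixed chamber.** -/
theorem above {t : Tw (bldg P e cs hcs) K} {g : K}
    (hg : t.θ (QuotientGroup.mk g) = QuotientGroup.mk g)
    (hσ : ∀ J : Set (Fin l), (∀ i ∈ J, t.σ i ∈ J) → J = ∅ ∨ J = Set.univ) {N₀ : Subgroup K}
    (hN₀ : MulAction.stabilizer K (QuotientGroup.mk g : K ⧸ P.B) ≤ N₀) (hinv : ∀ m ∈ N₀, t.τ m ∈ N₀) :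
    N₀ ≤ MulAction.stabilizer K (QuotientGroup.mk g : K ⧸ P.B) ∨ N₀ = ⊤ := by
  set M₁ : Subgroup K := (MulAut.conj g)⁻¹ • N₀ with hM₁
  have hmem1 : ∀ a, a ∈ M₁ ↔ g * a * g⁻¹ ∈ N₀ := by
    intro a
    rw [hM₁, Subgroup.mem_pointwise_smul_iff_inv_smul_mem, inv_inv, MulAut.smul_def, MulAut.conj_apply]
  have hmem2 : ∀ a, a ∈ N₀ → g⁻¹ * a * g ∈ M₁ := by
    intro a ha
    rw [hmem1]
    have : g * (g⁻¹ * a * g) * g⁻¹ = a := by group
    rwa [this]
  have hB : P.B ≤ M₁ := by
    intro b hb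
    rw [hmem1]
    apply hN₀
    rw [MulAction.mem_stabilizer_iff, smul_mk_eq]
    have : g⁻¹ * (g * b * g⁻¹) * g = b := by group
    rw [this]
    exact hb
  have hMJ : M₁ = PJ P e {i | (e i : K) ∈ M₁} := by
    have hS : P.S ∩ M₁ = (fun i => (e i : K)) '' {i | (e i : K) ∈ M₁} := by
      ext s
      constructor
      · rintro ⟨hs, hsM⟩
        refine ⟨e.symm ⟨s, hs⟩, ?_, by simp⟩
        rw [Set.mem_ofPred_eq, e.apply_symm_apply]
        exact hsM
      · rintro ⟨i, hi, rfl⟩
        exact ⟨(e i).2, hi⟩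
    have h1 := eq_parabolic hB
    rw [hS] at h1
    exact h1
  set J : Set (Fin l) := {i | (e i : K) ∈ M₁} with hJ
  have hmem : ∀ k, k ∈ M₁ ↔ wt P k ∈ WJ cs J := by
    intro k
    conv_lhs => rw [hMJ]
    exact mem_PJ e cs hcs
  have hst : ∀ i ∈ J, t.σ i ∈ J := by
    intro i hi
    have h1 : t.τ (g * e i * g⁻¹) ∈ N₀ := hinv _ ((hmem1 _).1 hi)
    have h2 := hmem2 _ h1
    rw [hmem] at h2
    have h3 := t.δ_θ (QuotientGroup.mk g) ((g * (e i : K) * g⁻¹) • (QuotientGroup.mk g : K ⧸ P.B))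
    rw [t.θ_smul, hg] at h3
    have e1 : (g * (e i : K) * g⁻¹) • (QuotientGroup.mk g : K ⧸ P.B) = QuotientGroup.mk (g * (e i : K)) := by
      show (QuotientGroup.mk (g * (e i : K) * g⁻¹ * g) : K ⧸ P.B) = _
      rw [inv_mul_cancel_right]
    have e2 : (t.τ (g * (e i : K) * g⁻¹)) • (QuotientGroup.mk g : K ⧸ P.B) =
      QuotientGroup.mk (t.τ (g * (e i : K) * g⁻¹) * g) := rfl
    rw [e1, e2, bldg_δ_mk, bldg_δ_mk, inv_mul_cancel_left] at h3
    have h4 : wt P (e i : K) = cs.simple i := by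
      rw [hcs]
      exact wt_of_mem P (self_mem_C _)
    rw [h4, t.φ_simple, ← mul_assoc] at h3
    rw [h3] at h2
    exact Tits.Ext.mem_of_simple_mem_WJ hC.inj h2
  rcases hσ J hst with h | h
  · left
    intro k hk
    rw [MulAction.mem_stabilizer_iff, smul_mk_eq]
    have h1 := hmem2 _ hk
    rw [hMJ, h] at h1
    have h2 : PJ P e (∅ : Set (Fin l)) = P.B := by
      show P.B ⊔ Subgroup.closure ((fun i => (e i : K)) '' ∅) = P.B
      rw [Set.image_empty, Subgroup.closure_empty, sup_bot_eq]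
    rwa [h2] at h1
  · right
    rw [eq_top_iff]
    intro k _
    have h1 : g⁻¹ * k * g ∈ M₁ := by
      rw [hmem, h, WJ_univ]
      trivial
    rw [hmem1] at h1
    have : g * (g⁻¹ * k * g) * g⁻¹ = k := by group
    rwa [this] at h1

end Over

/-- an automorphism stabilising a subgroup stabilises its centraliser -/
theorem centralizer_inv {K : Type*} [Group K] [Finite K] {α : MulAut K} {U : Subgroup K} (hU : ∀ m ∈ U, α m ∈ U) :
    ∀ z ∈ Subgroup.centralizer (U : Set K), α z ∈ Subgroup.centralizer (U : Set K) := by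
  intro z hz
  rw [Subgroup.mem_centralizer_iff] at hz ⊢
  intro u hu
  have hmap : U.map α.toMonoidHom = U := by
    refine Subgroup.eq_of_le_of_card_ge ?_ ?_
    · rintro _ ⟨b, hb, rfl⟩
      exact hU b hb
    · exact (Nat.card_congr (U.equivMapOfInjective α.toMonoidHom α.injective).toEquiv).le
  have hu' : u ∈ U.map α.toMonoidHom := by rw [hmap]; exact hu
  obtain ⟨v, hv, rfl⟩ := hu'
  have h1 := congrArg α (hz v hv)
  rw [map_mul, map_mul] at h1
  exact h1

/-- an automorphism stabilising a subgroup stabilises its normaliser -/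
theorem normalizer_inv {K : Type*} [Group K] [Finite K] {α : MulAut K} {U : Subgroup K} (hU : ∀ m ∈ U, α m ∈ U) :
    ∀ z ∈ Subgroup.normalizer (U : Set K), α z ∈ Subgroup.normalizer (U : Set K) := by
  intro z hz
  have hmap : U.map α.toMonoidHom = U := by
    refine Subgroup.eq_of_le_of_card_ge ?_ ?_
    · rintro _ ⟨b, hb, rfl⟩
      exact hU b hb
    · exact (Nat.card_congr (U.equivMapOfInjective α.toMonoidHom α.injective).toEquiv).le
  have hiff : ∀ u, α u ∈ U ↔ u ∈ U := by
    intro u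
    refine ⟨fun h => ?_, hU u⟩
    have h1 : α u ∈ U.map α.toMonoidHom := by rw [hmap]; exact h
    obtain ⟨v, hv, hvu⟩ := h1
    have h2 : v = u := α.injective hvu
    exact h2 ▸ hv
  rw [Subgroup.mem_normalizer_iff] at hz ⊢
  intro u
  obtain ⟨v, rfl⟩ := α.surjective u
  have h1 := hz v
  rw [← hiff v, ← hiff (z * v * z⁻¹), map_mul, map_mul, map_inv] at h1
  exact h1

section Main

variable {F : Type} [Field F] [Finite F] {p : ℕ} [Fact p.Prime] [CharP F p] {M : CoxeterMatrix (Fin 2)} {Q : Fin 2 → ℕ}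

/-- **An automorphism of `PSp_4(q)`, `q` odd, fixing a chamber is type preserving.** -/
theorem no_swap [Finite (PSp 2 F)] [IsSimpleGroup (PSp 2 F)] (h2 : p ≠ 2) (E : Eng p (PSp 2 F) M Q)
    {t : Tw E.Δ (PSp 2 F)} {c : PSp 2 F ⧸ E.P.B} (hc : t.θ c = c) (i : Fin 2) : t.σ i = i := by
  have hC : Cox E.cs := inferInstance
  by_contra hne
  have hsw : t.σ 0 = 1 ∧ t.σ 1 = 0 := by
    have h3 : t.σ 0 ≠ t.σ 1 := fun h => absurd (t.σ.injective h) (by decide)
    have h4 : ∀ i : Fin 2, i = 0 ∨ i = 1 := by decide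
    rcases h4 i with rfl | rfl
    · rcases h4 (t.σ 0) with h5 | h5
      · exact absurd h5 hne
      · refine ⟨h5, ?_⟩
        rcases h4 (t.σ 1) with h6 | h6
        · exact h6
        · exact absurd (h5.trans h6.symm) h3
    · rcases h4 (t.σ 1) with h5 | h5
      · refine ⟨?_, h5⟩
        rcases h4 (t.σ 0) with h6 | h6
        · exact absurd (h6.trans h5.symm) h3
        · exact h6
      · exact absurd h5 hne
  have hσ : ∀ J : Set (Fin 2), (∀ i ∈ J, t.σ i ∈ J) → J = ∅ ∨ J = Set.univ := by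
    intro J hJ
    by_cases h0 : (0 : Fin 2) ∈ J
    · right
      have h1 := hJ 0 h0
      rw [hsw.1] at h1
      ext i
      have h4 : ∀ i : Fin 2, i = 0 ∨ i = 1 := by decide
      rcases h4 i with rfl | rfl
      · exact ⟨fun _ => trivial, fun _ => h0⟩
      · exact ⟨fun _ => trivial, fun _ => h1⟩
    · left
      have h1 : (1 : Fin 2) ∉ J := by
        intro h1
        have h2 := hJ 1 h1
        rw [hsw.2] at h2
        exact h0 h2
      ext i
      have h4 : ∀ i : Fin 2, i = 0 ∨ i = 1 := by decide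
      rcases h4 i with rfl | rfl
      · exact ⟨fun h => h0 h, fun h => h.elim⟩
      · exact ⟨fun h => h1 h, fun h => h.elim⟩
  obtain ⟨U, hU, hN⟩ := EngNE.exists_sylow_at E c
  obtain ⟨y, hy, hyN⟩ := exists_bad (F := F) h2 U
  obtain ⟨g, rfl⟩ := QuotientGroup.mk_surjective c
  have hUτ : ∀ m ∈ (U : Subgroup (PSp 2 F)), t.τ m ∈ (U : Subgroup (PSp 2 F)) := by
    intro m hm
    rw [hU] at hm ⊢
    have := t.τ_mem_U E.sys hm
    rwa [hc] at this
  set C : Subgroup (PSp 2 F) := Subgroup.centralizer ((U : Subgroup (PSp 2 F)) : Set (PSp 2 F)) with hCdef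
  have hmemC : ∀ z, z ∈ C ↔ ∀ u ∈ (U : Subgroup (PSp 2 F)), u * z = z * u := by
    intro z
    rw [hCdef, Subgroup.mem_centralizer_iff]
    rfl
  have hCτ : ∀ z ∈ C, t.τ z ∈ C := centralizer_inv hUτ
  have hyC : y ∈ Subgroup.normalizer (C : Set (PSp 2 F)) := by
    rw [Subgroup.mem_normalizer_iff]
    intro z
    constructor
    · intro hz
      have h1 := hy z ((hmemC z).1 hz)
      have : y * z * y⁻¹ = z := by rw [← h1, mul_inv_cancel_right]
      rw [this]
      exact hz
    · intro hz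
      have h1 := hy _ ((hmemC _).1 hz)
      have h3 : z = y * z * y⁻¹ := by
        calc z = y⁻¹ * (y * z * y⁻¹ * y) := by group
          _ = y⁻¹ * (y * (y * z * y⁻¹)) := by rw [h1]
          _ = y * z * y⁻¹ := by group
      rw [h3]
      exact hz
  have hle : MulAction.stabilizer (PSp 2 F) (QuotientGroup.mk g : PSp 2 F ⧸ E.P.B) ≤ Subgroup.normalizer (C : Set (PSp 2 F)) := by
    rw [← hN]
    intro n hn
    have key : ∀ n ∈ Subgroup.normalizer ((U : Subgroup (PSp 2 F)) : Set (PSp 2 F)), ∀ z ∈ C, n * z * n⁻¹ ∈ C := by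
      intro n hn z hz
      rw [hmemC] at hz ⊢
      intro u hu
      have h1 : n⁻¹ * u * n ∈ (U : Subgroup (PSp 2 F)) := by
        have h3 := (Subgroup.mem_normalizer_iff.1 (inv_mem hn) u).1 hu
        rwa [inv_inv] at h3
      have h3 := hz _ h1
      calc u * (n * z * n⁻¹) = n * (n⁻¹ * u * n * z) * n⁻¹ := by group
        _ = n * (z * (n⁻¹ * u * n)) * n⁻¹ := by rw [h3]
        _ = n * z * n⁻¹ * u := by group
    rw [Subgroup.mem_normalizer_iff]
    intro z
    refine ⟨key n hn z, fun h => ?_⟩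
    have h3 := key n⁻¹ (inv_mem hn) _ h
    have : n⁻¹ * (n * z * n⁻¹) * n⁻¹⁻¹ = z := by group
    rwa [this] at h3
  rcases above E.e E.cs E.hcs hc hσ hle (normalizer_inv hCτ) with h | h
  · exact hyN (hN ▸ h hyC)
  · have hnorm : C.Normal := Subgroup.normalizer_eq_top_iff.1 h
    rcases hnorm.eq_bot_or_eq_top with h3 | h3
    · -- `C = ⊥`
      have hUb : (U : Subgroup (PSp 2 F)) = ⊥ := by
        by_contra hne
        have hnt : Nontrivial (U : Subgroup (PSp 2 F)) := (Subgroup.nontrivial_iff_ne_bot _).2 hne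
        have hz := U.isPGroup'.center_nontrivial
        obtain ⟨z, hz1⟩ := exists_ne (1 : Subgroup.center (U : Subgroup (PSp 2 F)))
        have h4 : ((z : (U : Subgroup (PSp 2 F))) : PSp 2 F) ∈ C := by
          rw [hmemC]
          intro u hu
          have h5 := Subgroup.mem_center_iff.1 z.2 ⟨u, hu⟩
          exact congrArg Subtype.val h5
        rw [h3, Subgroup.mem_bot] at h4
        exact hz1 (Subtype.ext (Subtype.ext h4))
      apply hyN
      rw [hUb, Subgroup.normalizer_eq_top]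
      trivial
    · apply hyN
      rw [Subgroup.mem_normalizer_iff]
      have hyc : ∀ z, z * y = y * z := fun z => hy z ((hmemC z).1 (by rw [h3]; trivial))
      intro z
      have : y * z * y⁻¹ = z := by rw [← hyc, mul_inv_cancel_right]
      rw [this]

end Main

end Cfsg.Agent.H520.SpOdd
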