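import Cfsg.Agent.H520.CcpLie0
import Cfsg.Agent.H520.CcpSp
import Cfsg.Agent.H272.Ccp.NoSwap
import Cfsg.Agent.H460.FamB
import Cfsg.Agent.H289.D4T.Omega
import Cfsg.Agent.H583.NoSwapG2Row
import Cfsg.Agent.H456.PspGraph
import Cfsg.Agent.H975.Ccp.Psl2
import Cfsg.Agent.H763.Ccp.PsuOut
import Cfsg.Agent.H763.Ccp.Alt
import Cfsg.Agent.H496.Ccp.Sz
import Cfsg.Agent.H496.Ccp.TwF
import Cfsg.Agent.H569.Ccp.Ree
import Cfsg.Agent.S0256

/-!
# The rows of the groups of Lie type (helper520, S4114)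

`row_lie` : `Row K` for the simple groups `K` with `IsLieTypeChar p K`.
-/

set_option autoImplicit false
set_option linter.unusedSectionVars false

namespace Cfsg.Agent.H520.Lie

open Cfsg Cfsg.Agent.H460.Engine Cfsg.Agent.H520.Comb Cfsg.Agent.H520.EngNE Cfsg.Agent.H538.MFacts
open Cfsg.Agent.H460.Typed Cfsg.Agent.H185.TypedTw
open Cfsg.Agent.LieRecognition.BNCox (cA)
open Cfsg.Agent.Nodes
open Cfsg.Agent.FixOdd (Tw)
open Cfsg.Agent.KFacts.RgdLieCharP (IsLieFilt)

/-! ### Linear groups -/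

section Linear

open Matrix

variable {F : Type} [Field F] [Fintype F] {p : ℕ} [Fact p.Prime] [CharP F p]

include p

theorem row_psl_ge {n : ℕ} (hn : 4 ≤ n) [IsSimpleGroup (ProjectiveSpecialLinearGroup (Fin (n + 1)) F)] :
    Row (ProjectiveSpecialLinearGroup (Fin (n + 1)) F) := by
  have : Finite (ProjectiveSpecialLinearGroup (Fin (n + 1)) F) := Quotient.finite _
  obtain ⟨E, -⟩ := exists_engF (ℓ := p) (by omega) (H460.FTypedAE.ftyped_psl F (n := n) (by omega))
  have hG : IsPSLChar p (ProjectiveSpecialLinearGroup (Fin (n + 1)) F) :=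
    ⟨F, inferInstance, inferInstance, inferInstance, n + 1, by omega, fun h => by omega, ⟨MulEquiv.refl _⟩⟩
  exact row_comb E (by omega) (irr_A n) (Or.inl hG) (Or.inl hG) (comb_A hn)

theorem row_psl4 [IsSimpleGroup (ProjectiveSpecialLinearGroup (Fin 4) F)] :
    Row (ProjectiveSpecialLinearGroup (Fin 4) F) := by
  have : Finite (ProjectiveSpecialLinearGroup (Fin 4) F) := Quotient.finite _
  by_cases h2 : Fintype.card F = 2
  · obtain ⟨e⟩ := Cfsg.Agent.S0256.result h2
    exact Row.congr e (H763.Ccp.row_alt ⟨8, by norm_num, ⟨MulEquiv.refl _⟩⟩)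
  obtain ⟨E, hE⟩ := exists_engF (ℓ := p) (by omega) (H460.FTypedAE.ftyped_psl F (n := 3) (by omega))
  have hG : IsPSLChar p (ProjectiveSpecialLinearGroup (Fin 4) F) :=
    ⟨F, inferInstance, inferInstance, inferInstance, 4, by omega, fun h => by omega, ⟨MulEquiv.refl _⟩⟩
  refine row_eng E (by omega) (irr_A 3) (Or.inl hG) (Or.inl hG) fun {t c} h hc hM => ?_
  by_contra hne
  have hσ := E.sigma_M t
  -- the middle node
  have h1 : t.σ 1 = 1 := by
    have h3 : ∀ x : Fin 3, dg (cA 3) x = dg (cA 3) 1 → x = 1 := by decide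
    exact h3 _ (dg_inv hσ 1)
  have h0 : t.σ 0 = 2 ∧ t.σ 2 = 0 := by
    have h4 : ∀ i : Fin 3, i = 0 ∨ i = 1 ∨ i = 2 := by decide
    have h5 : t.σ 0 ≠ 1 := fun h => absurd (t.σ.injective (h.trans h1.symm)) (by decide)
    have h6 : t.σ 2 ≠ 1 := fun h => absurd (t.σ.injective (h.trans h1.symm)) (by decide)
    have h7 : t.σ 0 ≠ t.σ 2 := fun h => absurd (t.σ.injective h) (by decide)
    rcases h4 (t.σ 0) with h8 | h8 | h8
    · rcases h4 (t.σ 2) with h9 | h9 | h9
      · exact absurd (h8.trans h9.symm) h7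
      · exact absurd h9 h6
      · exfalso
        apply hne
        intro i
        rcases h4 i with rfl | rfl | rfl
        · exact h8
        · exact h1
        · exact h9
    · exact absurd h8 h5
    · rcases h4 (t.σ 2) with h9 | h9 | h9
      · exact ⟨h8, h9⟩
      · exact absurd h9 h6
      · exact absurd (h8.trans h9.symm) h7
  have hsol := (hM {i | i ≠ 1} (fun h => by
      have : (1 : Fin 3) ∈ ({i | i ≠ 1} : Set (Fin 3)) := by rw [h]; trivial
      exact this rfl) (fun i hi h => hi (t.σ.injective (h.trans h1.symm))) 0 (by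
      show (0 : Fin 3) ≠ 1
      decide) (by rw [h0.1]; decide)).2
  have h3 := H460.PanL.q_of_fsol E.S E.e (hE 0) hsol
  rw [Nat.card_eq_fintype_card] at h3
  have h3 : Fintype.card F = 3 := h3.resolve_left h2
  have hp : p = 3 := by
    have h5 : (Fintype.card F : F) = 0 := FiniteField.cast_card_eq_zero F
    rw [h3, CharP.cast_eq_zero_iff F p] at h5
    exact (Nat.prime_dvd_prime_iff_eq Fact.out Nat.prime_three).1 h5
  subst hp
  exact noswap_false (H272.Ccp.noswap_psl4_three h3 3) h hc (by decide) h0.1 h0.2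

theorem row_psl3 [IsSimpleGroup (ProjectiveSpecialLinearGroup (Fin 3) F)] :
    Row (ProjectiveSpecialLinearGroup (Fin 3) F) := by
  have : Finite (ProjectiveSpecialLinearGroup (Fin 3) F) := Quotient.finite _
  obtain ⟨E, -⟩ := exists_engF (ℓ := p) (by norm_num) (H460.FTypedAE.ftyped_psl F (n := 2) (by omega))
  have hG : IsPSLChar p (ProjectiveSpecialLinearGroup (Fin 3) F) :=
    ⟨F, inferInstance, inferInstance, inferInstance, 3, by omega, fun h => by omega, ⟨MulEquiv.refl _⟩⟩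
  exact row_swap E (irr_A 2) (Or.inl hG) (Or.inl hG) (H272.Ccp.noswap_psl3 p)

end Linear

/-! ### Symplectic groups -/

section Symplectic

variable {F : Type} [Field F] [Fintype F] {p : ℕ} [Fact p.Prime] [CharP F p] {m : ℕ}

include p

theorem row_psp (hm : 2 ≤ m) (h2 : m = 2 → 3 ≤ Fintype.card F) [IsSimpleGroup (PSp m F)] : Row (PSp m F) := by
  have : Finite (PSp m F) := Quotient.finite _
  have hG : IsPSpChar p (PSp m F) := ⟨F, inferInstance, inferInstance, inferInstance, m, hm, h2, ⟨MulEquiv.refl _⟩⟩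
  by_cases hp : p = 2
  · subst hp
    exact H456.PspGraph.row_psp_char_two hG
  obtain ⟨E, -⟩ := exists_engF (ℓ := p) (by omega) (H460.FTypC.ftyped_psp F (m := m) (by omega))
  rcases hm.eq_or_lt with rfl | hm
  · exact row_eng E le_rfl (irr_B 2) (Or.inr (Or.inl hG)) (Or.inr (Or.inl hG)) fun {t c} _ hc _ => SpOdd.no_swap hp E hc
  · exact row_comb E (by omega) (irr_B m) (Or.inr (Or.inl hG)) (Or.inr (Or.inl hG)) fun h _ => comb_B hm h

end Symplectic

/-! ### Unitary groups -/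

section Unitary

variable {F : Type} [Field F] [Fintype F] {p : ℕ} [Fact p.Prime] [CharP F p] {q m : ℕ}

theorem q_gt (hF : Fintype.card F = q ^ 2) : 2 ≤ q := by
  have h1 : 1 < Fintype.card F := Fintype.one_lt_card
  by_contra hcon
  have : q ≤ 1 := by omega
  have h2 : q ^ 2 ≤ 1 ^ 2 := Nat.pow_le_pow_left this 2
  omega

include p

theorem row_psu_even (hF : Fintype.card F = q ^ 2) (hm : 2 ≤ m) [IsSimpleGroup (PSU (2 * m) F q)] :
    Row (PSU (2 * m) F q) := by
  have : Finite (PSU (2 * m) F q) := Quotient.finite _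
  have hG : IsPSUChar p (PSU (2 * m) F q) := ⟨F, inferInstance, inferInstance, inferInstance, 2 * m, q, hF, by omega,
    fun h => by omega, ⟨MulEquiv.refl _⟩⟩
  have hG1 : IsLieFilt p (PSU (2 * m) F q) := Or.inr (Or.inr (Or.inl hG))
  have hG2 : IsLieTypeChar p (PSU (2 * m) F q) := Or.inr (Or.inr (Or.inl hG))
  obtain ⟨E, -⟩ := exists_engF (ℓ := p) (by omega) (H460.FTypC.ftyped_psu_even (p := p) hF hm)
  rcases hm.eq_or_lt with rfl | hm
  · refine row_size E (irr_B 2) hG1 hG2 ?_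
    show q ^ 2 ≠ q
    have := q_gt hF
    intro h
    nlinarith
  · exact row_comb E (by omega) (irr_B m) hG1 hG2 fun h _ => comb_B hm h

theorem row_psu_odd (hF : Fintype.card F = q ^ 2) (hm : 2 ≤ m) [IsSimpleGroup (PSU (2 * m + 1) F q)] :
    Row (PSU (2 * m + 1) F q) := by
  have : Finite (PSU (2 * m + 1) F q) := Quotient.finite _
  have hG : IsPSUChar p (PSU (2 * m + 1) F q) := ⟨F, inferInstance, inferInstance, inferInstance, 2 * m + 1, q, hF,
    by omega, fun h => by omega, ⟨MulEquiv.refl _⟩⟩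
  have hG1 : IsLieFilt p (PSU (2 * m + 1) F q) := Or.inr (Or.inr (Or.inl hG))
  have hG2 : IsLieTypeChar p (PSU (2 * m + 1) F q) := Or.inr (Or.inr (Or.inl hG))
  obtain ⟨E⟩ := exists_eng (ℓ := p) (by omega) (H14.TypC.typed_psu_odd (F := F) (p := p) hF (m := m) (by omega))
  rcases hm.eq_or_lt with rfl | hm
  · refine row_size E (irr_B 2) hG1 hG2 ?_
    show q ^ 2 ≠ q ^ 3
    have := q_gt hF
    intro h
    have h3 : q ^ 3 = q ^ 2 * q := by ring
    rw [h3] at h
    have h4 : 0 < q ^ 2 := by positivity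
    nlinarith
  · exact row_comb E (by omega) (irr_B m) hG1 hG2 fun h _ => comb_B hm h

theorem row_psu3 (hF : Fintype.card F = q ^ 2) (hq : q ≠ 2) : Row (PSU 3 F q) := by
  have : Finite (PSU 3 F q) := Quotient.finite _
  have hG : IsPSUChar p (PSU 3 F q) := ⟨F, inferInstance, inferInstance, inferInstance, 3, q, hF, by omega,
    fun h => hq h.2, ⟨MulEquiv.refl _⟩⟩
  intro α h
  exact H412.TwRow.elRow_of_lie (r := p) (Or.inr (Or.inr (Or.inl hG))) α h (H763.Ccp.Psu.ne_psu3 hF hq α h)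

end Unitary

/-! ### Orthogonal groups -/

section Orth

variable {F : Type} [Field F] [Fintype F] {p : ℕ} [Fact p.Prime] [CharP F p] {m : ℕ}

include p

theorem row_odd (hm : 3 ≤ m) (hq : Odd (Fintype.card F)) [IsSimpleGroup (POmega F (quadFormOdd m F))] :
    Row (POmega F (quadFormOdd m F)) := by
  have : Finite (POmega F (quadFormOdd m F)) := Quotient.finite _
  have hG : IsPOmegaOddChar p (POmega F (quadFormOdd m F)) := ⟨F, inferInstance, inferInstance, inferInstance, m, hm, hq,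
    ⟨MulEquiv.refl _⟩⟩
  obtain ⟨E⟩ := exists_eng (ℓ := p) (by omega) (H185.TypedO.typed_odd_card (F := F) (p := p) (m := m) (by omega) (by
    rw [Nat.card_eq_fintype_card]; exact hq))
  exact row_comb E (by omega) (irr_B m) (Or.inr (Or.inr (Or.inr (Or.inl hG)))) (Or.inr (Or.inr (Or.inr (Or.inl hG))))
    fun h _ => comb_B hm h

theorem row_minus (hm : 4 ≤ m) (a b : F)
    (hab : ∀ z₁ z₂ : F, z₁ ^ 2 + a * z₁ * z₂ + b * z₂ ^ 2 = 0 → z₁ = 0 ∧ z₂ = 0)
    [IsSimpleGroup (POmega F (quadFormMinus (m - 1) F a b))] : Row (POmega F (quadFormMinus (m - 1) F a b)) := by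
  have : Finite (POmega F (quadFormMinus (m - 1) F a b)) := Quotient.finite _
  have hG : IsPOmegaMinusChar p (POmega F (quadFormMinus (m - 1) F a b)) :=
    ⟨F, inferInstance, inferInstance, inferInstance, m, a, b, hm, hab, ⟨MulEquiv.refl _⟩⟩
  obtain ⟨E⟩ := exists_eng (ℓ := p) (by omega) (H185.TypedO.typed_minus' (F := F) (p := p) (m := m - 1) (by omega) a b hab)
  have hG1 : IsLieFilt p (POmega F (quadFormMinus (m - 1) F a b)) :=
    Or.inr (Or.inr (Or.inr (Or.inr (Or.inr (Or.inl hG)))))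
  have hG2 : IsLieTypeChar p (POmega F (quadFormMinus (m - 1) F a b)) :=
    Or.inr (Or.inr (Or.inr (Or.inr (Or.inr (Or.inl hG)))))
  exact row_comb E (by omega) (irr_B (m - 1)) hG1 hG2 fun h _ => comb_B (by omega) h

theorem row_plus {n : ℕ} (hn : 2 ≤ n) [IsSimpleGroup (POmega F (quadFormPlus (n + 2) F))] :
    Row (POmega F (quadFormPlus (n + 2) F)) := by
  have : Finite (POmega F (quadFormPlus (n + 2) F)) := Quotient.finite _
  have hG : IsPOmegaPlusChar p (POmega F (quadFormPlus (n + 2) F)) :=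
    ⟨F, inferInstance, inferInstance, inferInstance, n + 2, by omega, ⟨MulEquiv.refl _⟩⟩
  have hG1 : IsLieFilt p (POmega F (quadFormPlus (n + 2) F)) := Or.inr (Or.inr (Or.inr (Or.inr (Or.inl hG))))
  have hG2 : IsLieTypeChar p (POmega F (quadFormPlus (n + 2) F)) := Or.inr (Or.inr (Or.inr (Or.inr (Or.inl hG))))
  rcases hn.eq_or_lt with rfl | hn
  · by_cases hF : Nat.card F = 2 ∨ Nat.card F = 3
    · obtain ⟨E, -, h1, -⟩ := H289.D4T.exists_eng_o8 (F := F) (r := p) hF
      refine row_eng E (by omega) (irr_D 2 (by norm_num)) hG1 hG2 fun {t c} h hc hM => ?_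
      refine comb_D4 (E.sigma_M t) (h1 t h.ccp ∅ (fun h => ?_) (fun i hi => hi.elim) ⟨c, ?_⟩) hM.ct
      · have : (0 : Fin 4) ∈ (∅ : Set (Fin 4)) := by rw [h]; trivial
        exact this
      · rw [hc]
        exact E.Δ.self_mem_Res _ _
    · obtain ⟨E, hE⟩ := exists_engF (ℓ := p) (by omega) (H460.FTypO.ftyped_plus' (F := F) (p := p) (m := 2) (by omega))
      refine row_eng E (by omega) (irr_D 2 (by norm_num)) hG1 hG2 fun {t c} h hc hM => ?_
      have hσ := E.sigma_M t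
      have h1 : t.σ 1 = 1 := by
        have h3 : ∀ x : Fin 4, mD x (t.σ 1) = mD x (t.σ 1) := fun _ => rfl
        by_contra hne
        -- `1` has three neighbours
        have h4 : ∀ j : Fin 4, j ≠ 1 → mD (t.σ 1) (t.σ j) = 3 := by
          intro j hj
          rw [← mD_eq, hσ, mD_eq]
          unfold mD
          rw [if_neg (Ne.symm hj), if_pos (Or.inl rfl)]
        have h5 : ∀ a b : Fin 4, a ≠ 1 → mD a b = 3 → b = 1 := by decide
        have h6 := h5 _ _ hne (h4 0 (by decide))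
        have h7 := h5 _ _ hne (h4 2 (by decide))
        exact absurd (t.σ.injective (h6.trans h7.symm)) (by decide)
      intro i
      by_contra hi
      have hi1 : i ≠ 1 := by
        rintro rfl
        exact hi h1
      have hsol := (hM {i | i ≠ 1} (fun h => by
        have : (1 : Fin 4) ∈ ({i | i ≠ 1} : Set (Fin 4)) := by rw [h]; trivial
        exact this rfl) (fun i hi h => hi (t.σ.injective (h.trans h1.symm))) i hi1 hi).2
      exact hF (H460.PanL.q_of_fsol E.S E.e (hE i) hsol)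
  · obtain ⟨E, -⟩ := exists_engF (ℓ := p) (by omega) (H460.FTypO.ftyped_plus' (F := F) (p := p) (m := n) (by omega))
    exact row_comb E (by omega) (irr_D n (by omega)) hG1 hG2 (comb_D hn)

end Orth

/-! ### Exceptional groups -/

section Exc

open Cfsg.Lie Cfsg.Agent.Nodes.RGDChev

variable {F : Type} [Field F] [Fintype F] {p : ℕ} [Fact p.Prime] [CharP F p]

include p

theorem row_G2 (h3 : 3 ≤ Fintype.card F) [IsSimpleGroup ↥(chevG2.group F)] : Row ↥(chevG2.group F) := by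
  have hG : IsExceptionalChevChar p ↥(chevG2.group F) :=
    ⟨F, inferInstance, inferInstance, inferInstance, Or.inl ⟨h3, ⟨MulEquiv.refl _⟩⟩⟩
  obtain ⟨E, -⟩ := exists_engF (ℓ := p) (by norm_num)
    (H460.FTypedAE.ftyped_chev (D := chevG2) (l := 2) (M := CoxeterMatrix.G₂) (by simp [IsType, typeList]) F p)
  exact row_swap E irr_G2 (Or.inr (Or.inr (Or.inr (Or.inr (Or.inr (Or.inr (Or.inl hG)))))))
    (Or.inr (Or.inr (Or.inr (Or.inr (Or.inr (Or.inr (Or.inl hG))))))) (H583.NoSwapG2.noSwap_row h3 (MulEquiv.refl _))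

theorem row_F4 [IsSimpleGroup ↥(chevF4.group F)] : Row ↥(chevF4.group F) := by
  have hG : IsExceptionalChevChar p ↥(chevF4.group F) :=
    ⟨F, inferInstance, inferInstance, inferInstance, Or.inr (Or.inl ⟨MulEquiv.refl _⟩)⟩
  obtain ⟨E⟩ := exists_eng (ℓ := p) (by norm_num)
    (H594.TypedAE.typed_chev (D := chevF4) (l := 4) (M := CoxeterMatrix.F₄) (by simp [IsType, typeList]) F p)
  exact row_comb E (by norm_num) irr_F4 (Or.inr (Or.inr (Or.inr (Or.inr (Or.inr (Or.inr (Or.inl hG)))))))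
    (Or.inr (Or.inr (Or.inr (Or.inr (Or.inr (Or.inr (Or.inl hG))))))) comb_F4

theorem row_E6 [IsSimpleGroup ↥(chevE6.group F)] : Row ↥(chevE6.group F) := by
  have hG : IsExceptionalChevChar p ↥(chevE6.group F) :=
    ⟨F, inferInstance, inferInstance, inferInstance, Or.inr (Or.inr (Or.inl ⟨MulEquiv.refl _⟩))⟩
  obtain ⟨E⟩ := exists_eng (ℓ := p) (by norm_num)
    (H594.TypedAE.typed_chev (D := chevE6) (l := 6) (M := CoxeterMatrix.E₆) (by simp [IsType, typeList]) F p)
  exact row_comb E (by norm_num) irr_E6 (Or.inr (Or.inr (Or.inr (Or.inr (Or.inr (Or.inr (Or.inl hG)))))))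
    (Or.inr (Or.inr (Or.inr (Or.inr (Or.inr (Or.inr (Or.inl hG))))))) comb_E6

theorem row_E7 [IsSimpleGroup ↥(chevE7.group F)] : Row ↥(chevE7.group F) := by
  have hG : IsExceptionalChevChar p ↥(chevE7.group F) :=
    ⟨F, inferInstance, inferInstance, inferInstance, Or.inr (Or.inr (Or.inr (Or.inl ⟨MulEquiv.refl _⟩)))⟩
  obtain ⟨E⟩ := exists_eng (ℓ := p) (by norm_num)
    (H594.TypedAE.typed_chev (D := chevE7) (l := 7) (M := CoxeterMatrix.E₇) (by simp [IsType, typeList]) F p)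
  exact row_comb E (by norm_num) irr_E7 (Or.inr (Or.inr (Or.inr (Or.inr (Or.inr (Or.inr (Or.inl hG)))))))
    (Or.inr (Or.inr (Or.inr (Or.inr (Or.inr (Or.inr (Or.inl hG))))))) comb_E7

theorem row_E8 [IsSimpleGroup ↥(chevE8.group F)] : Row ↥(chevE8.group F) := by
  have hG : IsExceptionalChevChar p ↥(chevE8.group F) :=
    ⟨F, inferInstance, inferInstance, inferInstance, Or.inr (Or.inr (Or.inr (Or.inr ⟨MulEquiv.refl _⟩)))⟩
  obtain ⟨E⟩ := exists_eng (ℓ := p) (by norm_num)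
    (H594.TypedAE.typed_chev (D := chevE8) (l := 8) (M := CoxeterMatrix.E₈) (by simp [IsType, typeList]) F p)
  exact row_comb E (by norm_num) irr_E8 (Or.inr (Or.inr (Or.inr (Or.inr (Or.inr (Or.inr (Or.inl hG)))))))
    (Or.inr (Or.inr (Or.inr (Or.inr (Or.inr (Or.inr (Or.inl hG))))))) comb_E8

theorem row_2E6 {q : ℕ} (hq : IsPrimePow q) (hF : Fintype.card F = q ^ 2) [IsSimpleGroup ↥(twistedE6 F q)] :
    Row ↥(twistedE6 F q) := by
  have hG : IsTwistedE6D4Char p ↥(twistedE6 F q) :=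
    ⟨F, inferInstance, inferInstance, inferInstance, q, hq, Or.inl ⟨hF, ⟨MulEquiv.refl _⟩⟩⟩
  obtain ⟨E⟩ := exists_eng (ℓ := p) (by norm_num) (ftyped_2E6 F hq (by rw [Nat.card_eq_fintype_card]; exact hF)).typed
  exact row_comb E (by norm_num) irr_F4 (Or.inr (Or.inr (Or.inr (Or.inr (Or.inr (Or.inr (Or.inr hG)))))))
    (Or.inr (Or.inr (Or.inr (Or.inr (Or.inr (Or.inr (Or.inr (Or.inl hG)))))))) comb_F4

theorem row_3D4 {q : ℕ} (hq : IsPrimePow q) (hF : Fintype.card F = q ^ 3) [IsSimpleGroup ↥(twistedD4 F q)] :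
    Row ↥(twistedD4 F q) := by
  have hG : IsTwistedE6D4Char p ↥(twistedD4 F q) :=
    ⟨F, inferInstance, inferInstance, inferInstance, q, hq, Or.inr ⟨hF, ⟨MulEquiv.refl _⟩⟩⟩
  obtain ⟨E, -⟩ := exists_engF (ℓ := p) (by norm_num) (ftyped_3D4 F hq (by rw [Nat.card_eq_fintype_card]; exact hF))
  refine row_size E irr_G2 (Or.inr (Or.inr (Or.inr (Or.inr (Or.inr (Or.inr (Or.inr hG)))))))
    (Or.inr (Or.inr (Or.inr (Or.inr (Or.inr (Or.inr (Or.inr (Or.inl hG)))))))) ?_
  show q ≠ q ^ 3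
  have := hq.one_lt
  intro h
  have h4 : q ^ 1 < q ^ 3 := Nat.pow_lt_pow_right this (by norm_num)
  rw [pow_one] at h4
  omega

end Exc

/-- **The rows of the groups of Lie type.** -/
theorem row_lie (p : ℕ) [Fact p.Prime] (K : Type) [Group K] [Finite K] [IsSimpleGroup K] (hG : IsLieTypeChar p K) : Row K := by
  rcases hG with h | h | h | h | h | h | h | h | ⟨-, h⟩ | ⟨-, h⟩ | ⟨-, h⟩
  · obtain ⟨F, _, _, _, n, hn, hc, ⟨e⟩⟩ := h
    rcases (show n = 2 ∨ n = 3 ∨ n = 4 ∨ 5 ≤ n by omega) with rfl | rfl | rfl | hn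
    · exact Row.congr e (H975.Ccp.row_psl2 (hc rfl))
    · exact row_tr (fun _ => row_psl3 (p := p)) e
    · exact row_tr (fun _ => row_psl4 (p := p)) e
    · obtain ⟨m, rfl⟩ : ∃ m, n = m + 1 := ⟨n - 1, by omega⟩
      exact row_tr (fun _ => row_psl_ge (p := p) (by omega)) e
  · obtain ⟨F, _, _, _, m, hm, hc, ⟨e⟩⟩ := h
    exact row_tr (fun _ => row_psp (p := p) hm hc) e
  · obtain ⟨F, _, _, _, n, q, hF, hn, hq, ⟨e⟩⟩ := h
    rcases Nat.even_or_odd' n with ⟨m, rfl | rfl⟩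
    · exact row_tr (fun _ => row_psu_even (p := p) hF (by omega)) e
    · rcases (show m = 1 ∨ 2 ≤ m by omega) with rfl | hm
      · exact Row.congr e (row_psu3 (p := p) hF fun h => hq ⟨rfl, h⟩)
      · exact row_tr (fun _ => row_psu_odd (p := p) hF hm) e
  · obtain ⟨F, _, _, _, m, hm, hq, ⟨e⟩⟩ := h
    exact row_tr (fun _ => row_odd (p := p) hm hq) e
  · obtain ⟨F, _, _, _, m, hm, ⟨e⟩⟩ := h
    obtain ⟨n, rfl⟩ : ∃ n, m = n + 2 := ⟨m - 2, by omega⟩
    exact row_tr (fun _ => row_plus (p := p) (by omega)) e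
  · obtain ⟨F, _, _, _, m, a, b, hm, hab, ⟨e⟩⟩ := h
    exact row_tr (fun _ => row_minus (p := p) hm a b hab) e
  · obtain ⟨F, _, _, _, ⟨h5, ⟨e⟩⟩ | ⟨⟨e⟩⟩ | ⟨⟨e⟩⟩ | ⟨⟨e⟩⟩ | ⟨⟨e⟩⟩⟩ := h
    · exact row_tr (fun _ => row_G2 (p := p) h5) e
    · exact row_tr (fun _ => row_F4 (p := p)) e
    · exact row_tr (fun _ => row_E6 (p := p)) e
    · exact row_tr (fun _ => row_E7 (p := p)) e
    · exact row_tr (fun _ => row_E8 (p := p)) e
  · obtain ⟨F, _, _, _, q, hq, ⟨hF, ⟨e⟩⟩ | ⟨hF, ⟨e⟩⟩⟩ := h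
    · exact row_tr (fun _ => row_2E6 (p := p) hq hF) e
    · exact row_tr (fun _ => row_3D4 (p := p) hq hF) e
  · exact H496.Ccp.row_sz h
  · exact H496.Ccp.row_twF4 h
  · exact H569.Ccp.row_ree h

end Cfsg.Agent.H520.Lie
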