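import Cfsg.Agent.H520.CcpEng
import Cfsg.Agent.H520.CcpComb
import Cfsg.Agent.H289.Ccp.J0
import Cfsg.Agent.H285.Ccp.Bta
import Cfsg.Agent.H412.TwRow

/-!
# Rows of the groups of Lie type of rank at least two (helper520, S4114)

* `row_eng` : `Row K` for `E : Eng ℓ K M Q` if the automorphisms with `Cfg` fixing a chamber and moving isolated nodes only are
  type preserving;
* `row_comb`, `row_size`, `row_swap` : by the diagram; by the sizes of the panels; by `NoSwap` (rank two).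
-/

set_option autoImplicit false
set_option linter.unusedSectionVars false

namespace Cfsg.Agent.H520.Lie

open Cfsg Cfsg.Agent.LieExceptional.BNPairCore Cfsg.Agent.Tits.Core Cfsg.Agent.Tits.Core.Bldg Cfsg.Agent.Tits.OfBN
  Cfsg.Agent.Tits.OppRes
open Cfsg.Agent.FixOdd (Tw)
open Cfsg.Agent.H460.Engine Cfsg.Agent.H520.Comb Cfsg.Agent.H520.EngNE

universe u

variable {K : Type u} [Group K] [Finite K] {ℓ : ℕ} [Fact ℓ.Prime] {l : ℕ} {M : CoxeterMatrix (Fin l)} {Q : Fin l → ℕ}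

/-- moved nodes are isolated with solvable parabolic subgroups -/
def Mv (E : Eng ℓ K M Q) (σ : Equiv.Perm (Fin l)) : Prop :=
  ∀ T : Set (Fin l), T ≠ Set.univ → (∀ i ∈ T, σ i ∈ T) → ∀ i ∈ T, σ i ≠ i →
    (∀ j ∈ T, j ≠ i → M i j = 2) ∧ Group.IsSolvable (E.P.parabolic {(E.e i : K)})

theorem Mv.ct {E : Eng ℓ K M Q} {σ : Equiv.Perm (Fin l)} (h : Mv E σ) : CT M σ :=
  fun T hT hst i hi hi' => (h T hT hst i hi hi').1

theorem dvd_card (E : Eng ℓ K M Q) (hl : 1 ≤ l) : ℓ ∣ Nat.card K := by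
  have hC : Cox E.cs := inferInstance
  obtain ⟨y, z, hyz, hy, hz⟩ := E.th (QuotientGroup.mk 1) ⟨0, hl⟩
  obtain ⟨u, hu, huz⟩ := E.sys.exists_move (hy.trans hz.symm)
  have hu1 : u ≠ 1 := by
    rintro rfl
    rw [one_smul] at huz
    exact hyz huz
  obtain ⟨n, hn⟩ := IsPGroup.iff_card.1 (E.sys.isP (QuotientGroup.mk 1))
  have hn0 : n ≠ 0 := by
    rintro rfl
    rw [pow_zero] at hn
    have h1 := Subgroup.card_eq_one.1 hn
    rw [h1] at hu
    exact hu1 (Subgroup.mem_bot.1 hu)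
  exact (dvd_pow_self ℓ hn0).trans (hn ▸ Subgroup.card_subgroup_dvd_card _)

/-- **The row from the engine.** -/
theorem row_eng (E : Eng ℓ K M Q) (hl : 2 ≤ l)
    (irr : ∀ J : Set (Fin l), J.Nonempty → J ≠ Set.univ → ∃ a ∈ J, ∃ b, b ∉ J ∧ M a b ≠ 2)
    (hG : KFacts.RgdLieCharP.IsLieFilt ℓ K) (hG' : IsLieTypeChar ℓ K)
    (hσ : ∀ {t : Tw E.Δ K} {c : K ⧸ E.P.B}, Cfg t.τ → t.θ c = c → Mv E t.σ → ∀ i, t.σ i = i) : Row K := by
  intro α h
  have hsim := h.sim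
  have hEL : ¬ EL ℓ α := H412.TwRow.elRow_of_lie hG' α h
  have hBT : BTA ℓ K := H285.Ccp.Bta.bta_of_lie hG (by
    by_contra hcon
    push Not at hcon
    exact h.na hcon)
  obtain ⟨t, rfl, hθ⟩ := E.exists_t α
  obtain ⟨c, hc, ⟨i, hi⟩, hT⟩ := ne_main (E := E) (fun {t J x} hccp hgd hsol =>
    H289.Ccp.gd_empty E.sys E.th (dtr E) hccp hgd hsol) (by omega) (fun i => by
      obtain ⟨a, ha, b, hb, hM⟩ := irr {i} ⟨i, rfl⟩ (fun h1 => by
        have h2 : ∀ j : Fin l, j = i := fun j => by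
          have : j ∈ ({i} : Set (Fin l)) := by rw [h1]; trivial
          exact this
        have h3 := (h2 ⟨0, by omega⟩).trans (h2 ⟨1, by omega⟩).symm
        exact absurd (congrArg Fin.val h3) (by norm_num))
      have ha : a = i := ha
      subst ha
      exact ⟨b, fun h1 => hb h1, hM⟩) hBT (dvd_card E (by omega)) h hEL hθ
  exact hi (hσ h hc hT i)

/-- by the diagram -/
theorem row_comb (E : Eng ℓ K M Q) (hl : 2 ≤ l)
    (irr : ∀ J : Set (Fin l), J.Nonempty → J ≠ Set.univ → ∃ a ∈ J, ∃ b, b ∉ J ∧ M a b ≠ 2)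
    (hG : KFacts.RgdLieCharP.IsLieFilt ℓ K) (hG' : IsLieTypeChar ℓ K)
    (hcomb : ∀ {σ : Equiv.Perm (Fin l)}, (∀ i j, M (σ i) (σ j) = M i j) → CT M σ → ∀ i, σ i = i) : Row K :=
  row_eng E hl irr hG hG' fun {t} _ _ _ hM => hcomb (E.sigma_M t) hM.ct

/-- the sizes of the panels -/
theorem Q_sigma (E : Eng ℓ K M Q) (t : Tw E.Δ K) (i : Fin l) : Q (t.σ i) = Q i := by
  have h1 : ∀ i c, Nat.card (E.Δ.Pan i c) = Q i + 1 := fun i c => H460.PanL.card_pan E.S E.e E.cs E.hcs (E.node i) c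
  have h2 : Nat.card (E.Δ.Pan i (QuotientGroup.mk 1)) = Nat.card (E.Δ.Pan (t.σ i) (t.θ (QuotientGroup.mk 1))) := by
    refine Nat.card_congr (t.θ.subtypeEquiv fun x => ?_)
    rw [mem_Pan, mem_Pan, t.δ_θ, ← t.φ_simple]
    exact or_congr t.θ.injective.eq_iff.symm t.φ.injective.eq_iff.symm
  rw [h1, h1] at h2
  omega

/-- rank two, panels of different sizes -/
theorem row_size {M : CoxeterMatrix (Fin 2)} {Q : Fin 2 → ℕ} (E : Eng ℓ K M Q)
    (irr : ∀ J : Set (Fin 2), J.Nonempty → J ≠ Set.univ → ∃ a ∈ J, ∃ b, b ∉ J ∧ M a b ≠ 2)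
    (hG : KFacts.RgdLieCharP.IsLieFilt ℓ K) (hG' : IsLieTypeChar ℓ K) (hQ : Q 0 ≠ Q 1) : Row K := by
  refine row_eng E le_rfl irr hG hG' fun {t c} _ _ _ i => ?_
  have h1 := Q_sigma E t i
  by_contra hne
  have h2 : (t.σ i = 0 ∧ i = 1) ∨ (t.σ i = 1 ∧ i = 0) := by
    generalize t.σ i = j at *
    fin_cases i <;> fin_cases j <;> simp_all
  rcases h2 with ⟨h2, h3⟩ | ⟨h2, h3⟩
  · rw [h2, h3] at h1
    exact hQ h1
  · rw [h2, h3] at h1
    exact hQ h1.symm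

/-- rank two, `NoSwap` -/
theorem row_swap {M : CoxeterMatrix (Fin 2)} {Q : Fin 2 → ℕ} (E : Eng ℓ K M Q)
    (irr : ∀ J : Set (Fin 2), J.Nonempty → J ≠ Set.univ → ∃ a ∈ J, ∃ b, b ∉ J ∧ M a b ≠ 2)
    (hG : KFacts.RgdLieCharP.IsLieFilt ℓ K) (hG' : IsLieTypeChar ℓ K) (hns : NoSwap ℓ K) : Row K := by
  refine row_eng E le_rfl irr hG hG' fun {t c} h hc _ => ?_
  by_contra hne
  have h2 : t.σ 0 = 1 ∧ t.σ 1 = 0 := by
    have h3 : t.σ 0 ≠ t.σ 1 := fun h => absurd (t.σ.injective h) (by decide)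
    push Not at hne
    obtain ⟨i, hi⟩ := hne
    have h4 : ∀ i : Fin 2, i = 0 ∨ i = 1 := by decide
    rcases h4 i with rfl | rfl
    · rcases h4 (t.σ 0) with h5 | h5
      · exact absurd h5 hi
      · refine ⟨h5, ?_⟩
        rcases h4 (t.σ 1) with h6 | h6
        · exact h6
        · exact absurd (h5.trans h6.symm) h3
    · rcases h4 (t.σ 1) with h5 | h5
      · refine ⟨?_, h5⟩
        rcases h4 (t.σ 0) with h6 | h6
        · exact absurd (h6.trans h5.symm) h3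
        · exact h6
      · exact absurd h5 hi
  exact noswap_false hns h hc (by decide) h2.1 h2.2

/-- transport -/
theorem row_tr {L : Type*} [Group L] [IsSimpleGroup K] (h : IsSimpleGroup L → Row L) (e : K ≃* L) : Row K :=
  Row.congr e (h e.symm.isSimpleGroup)

end Cfsg.Agent.H520.Lie
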