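import Mathlib
import Cfsg.Agent.Tits.Gate
import Cfsg.Agent.Tits.OppRes
import Cfsg.Agent.FixBN.Defs

/-!
# Solvable normal subgroups and adjacent nodes (helper520, S4114)

`M` a group acting on a building `Δ`, `c` a chamber.

* `MA Δ M c T` : `M` moves along panels;
* `rd`, `nb` : the set of distances `δ(c, kc)`, `k ∈ N`, `N` normalised by `M`;
* `no_node` : a solvable `N` does not contain an element with `δ(c, kc) = s_i` if `i` has a neighbour in `T`;
* `fix_of_nb` : if all nodes of `T` have a neighbour in `T` then `N` fixes `c`.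
-/

set_option autoImplicit false
set_option linter.unusedSectionVars false

namespace Cfsg.Agent.H520.NS

open Cfsg.Agent.Tits.Core Cfsg.Agent.Tits.Core.Bldg Cfsg.Agent.Tits

variable {I : Type*} {M : CoxeterMatrix I} {W : Type*} [Group W] {cs : CoxeterSystem M W} {C : Type*}
  {Δ : Bldg cs C} {G : Type*} [Group G] [MulAction G C]

local prefix:100 "ℓ" => cs.length
local prefix:100 "s" => cs.simple

section Words

variable [F : OppRes.Cox cs]

/-- the length of `s_j s_i s_j` -/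
theorem len3 {i j : I} (h : s i * s j ≠ s j * s i) : ℓ (s j * s i * s j) = 3 := by
  have hij : i ≠ j := fun e => h (by rw [e])
  have hne : s i ≠ s j := fun e => hij (F.inj e)
  have h2 : ℓ (s j * s i) = 2 := by
    have h3 := cs.length_mul_simple_ne (s j) i
    have h4 : ℓ (s j) = 1 := cs.length_simple j
    rcases cs.length_mul_simple (s j) i with h5 | h5
    · omega
    · have h6 : ℓ (s j * s i) = 0 := by omega
      rw [cs.length_eq_zero_iff] at h6
      exact absurd (by rw [mul_eq_one_iff_eq_inv, cs.inv_simple] at h6; exact h6.symm) hne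
  rcases cs.length_mul_simple (s j * s i) j with h5 | h5
  · omega
  · exfalso
    have h6 : ℓ (cs.wordProd [j, i] * s j) < ℓ (cs.wordProd [j, i]) := by
      rw [cs.wordProd_cons, cs.wordProd_singleton]
      omega
    obtain ⟨k, hk, h7⟩ := Exchange.exchange_right cs h6
    simp only [List.length_cons, List.length_nil] at hk
    rw [cs.wordProd_cons, cs.wordProd_singleton] at h7
    interval_cases k
    · rw [List.eraseIdx_zero, List.tail_cons, cs.wordProd_singleton] at h7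
      apply h
      calc s i * s j = (s j * s i * s j) * s j := by rw [h7]
        _ = s j * s i := by rw [mul_assoc, cs.simple_mul_simple_self, mul_one]
    · have h8 : ([j, i] : List I).eraseIdx 1 = [j] := rfl
      rw [h8, cs.wordProd_singleton] at h7
      have h9 : s j * s i = 1 := by
        have := congrArg (· * s j) h7
        simp only [mul_assoc, cs.simple_mul_simple_self, mul_one] at this
        exact this
      exact hne (by rw [mul_eq_one_iff_eq_inv, cs.inv_simple] at h9; exact h9.symm)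

end Words

/-- `δ(c, kc) = w` for some `k ∈ N` -/
def Dst (Δ : Bldg cs C) (N : Subgroup G) (c : C) (w : W) : Prop := ∃ k ∈ N, Δ.δ c (k • c) = w

/-- `M` moves along panels. -/
structure MA (Δ : Bldg cs C) (M : Subgroup G) (c : C) (T : Set I) : Prop where
  iso : ∀ m ∈ M, ∀ x y, Δ.δ (m • x) (m • y) = Δ.δ x y
  mv : ∀ m ∈ M, ∀ j, ℓ (Δ.δ c (m • c) * s j) < ℓ (Δ.δ c (m • c)) →
    ∃ u ∈ M, u • c = c ∧ Δ.δ (m • c) (u • m • c) = s j
  ad : ∀ j ∈ T, ∃ m ∈ M, Δ.δ c (m • c) = s j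

variable {M' : Subgroup G} {c : C} {T : Set I}

/-- right descents -/
theorem rd (h : MA Δ M' c T) {N : Subgroup G} (hN : N ≤ M') (hn : ∀ m ∈ M', ∀ k ∈ N, m * k * m⁻¹ ∈ N) {w : W}
    (hw : Dst Δ N c w) {j : I} (hj : ℓ (w * s j) < ℓ w) : Dst Δ N c (s j) := by
  obtain ⟨k, hk, rfl⟩ := hw
  obtain ⟨u, hu, huc, h1⟩ := h.mv k (hN hk) j hj
  refine ⟨k⁻¹ * (u * k * u⁻¹), mul_mem (inv_mem hk) (hn u hu k hk), ?_⟩
  have h2 : (k⁻¹ * (u * k * u⁻¹)) • c = k⁻¹ • u • k • c := by
    have h3 : u⁻¹ • c = c := by rw [inv_smul_eq_iff, huc]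
    rw [mul_smul, mul_smul, mul_smul, h3]
  rw [h2]
  have h4 := h.iso k (hN hk) c (k⁻¹ • u • k • c)
  rw [smul_inv_smul] at h4
  rw [← h4, h1]

variable [F : OppRes.Cox cs]

/-- neighbours -/
theorem nb (h : MA Δ M' c T) {N : Subgroup G} (hN : N ≤ M') (hn : ∀ m ∈ M', ∀ k ∈ N, m * k * m⁻¹ ∈ N) {i j : I}
    (hi : Dst Δ N c (s i)) (hj : j ∈ T) (hij : s i * s j ≠ s j * s i) : Dst Δ N c (s j) := by
  obtain ⟨k, hk, hki⟩ := hi
  obtain ⟨m, hm, hmj⟩ := h.ad j hj
  have h3 := len3 (cs := cs) hij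
  have h1 : Δ.δ c ((m⁻¹ * k * m) • c) = s j * s i * s j := by
    have h2 := h.iso m hm c ((m⁻¹ * k * m) • c)
    have h2' : m • (m⁻¹ * k * m) • c = k • m • c := by
      rw [mul_smul, mul_smul, smul_inv_smul]
    rw [h2'] at h2
    rw [← h2]
    have e1 : Δ.δ (m • c) c = s j := Δ.δ_symm_simple hmj
    have e2 : Δ.δ (k • c) (k • m • c) = s j := by rw [h.iso k (hN hk), hmj]
    have hl2 : ℓ (s j * s i) = 2 := by
      have h5 : ℓ (s j) = 1 := cs.length_simple j
      have := cs.length_mul_le (s j) (s i)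
      have h6 : ℓ (s i) = 1 := cs.length_simple i
      have := cs.length_mul_le (s j * s i) (s j)
      omega
    have e3 : Δ.δ (m • c) (k • c) = s j * s i := Δ.δ_mul_of e1 hki (by
      rw [hl2, cs.length_simple, cs.length_simple])
    exact Δ.δ_mul_of e3 e2 (by rw [h3, hl2, cs.length_simple])
  refine rd h hN hn (w := s j * s i * s j) ⟨_, ?_, h1⟩ ?_
  · have := hn m⁻¹ (inv_mem hm) k hk
    rwa [inv_inv] at this
  · rw [mul_assoc, cs.simple_mul_simple_self, mul_one, h3]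
    have := cs.length_mul_le (s j) (s i)
    rw [cs.length_simple, cs.length_simple] at this
    omega

/-- the commutator subgroup -/
theorem dst_comm (h : MA Δ M' c T) {N : Subgroup G} (hN : N ≤ M') (hn : ∀ m ∈ M', ∀ k ∈ N, m * k * m⁻¹ ∈ N)
    {i j : I} (hi : Dst Δ N c (s i)) (hiT : i ∈ T) (hj : j ∈ T) (hij : s i * s j ≠ s j * s i) :
    Dst Δ ⁅N, N⁆ c (s i) := by
  have hN' : ⁅N, N⁆ ≤ M' := (Subgroup.commutator_le_self N).trans hN
  have hn' : ∀ m ∈ M', ∀ k ∈ ⁅N, N⁆, m * k * m⁻¹ ∈ ⁅N, N⁆ := by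
    intro m hm k hk
    have h1 : N.map (MulAut.conj m).toMonoidHom ≤ N := by
      rintro _ ⟨x, hx, rfl⟩
      exact hn m hm x hx
    have h2 : (⁅N, N⁆).map (MulAut.conj m).toMonoidHom ≤ ⁅N, N⁆ := by
      rw [Subgroup.map_commutator]
      exact Subgroup.commutator_mono h1 h1
    exact h2 ⟨k, hk, rfl⟩
  obtain ⟨k2, hk2, hk2j⟩ := nb h hN hn hi hj hij
  obtain ⟨k1, hk1, hk1i⟩ := hi
  have e1 : Δ.δ (k1 • c) (k1 • k2 • c) = s j := by rw [h.iso k1 (hN hk1), hk2j]
  have e2 : Δ.δ (k1 • k2 • c) (k1 • k2 • k1⁻¹ • c) = s i := by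
    rw [h.iso k1 (hN hk1), h.iso k2 (hN hk2)]
    have h5 := h.iso k1 (hN hk1) c (k1⁻¹ • c)
    rw [smul_inv_smul] at h5
    rw [← h5]
    exact Δ.δ_symm_simple hk1i
  have e3 : Δ.δ (k1 • k2 • k1⁻¹ • c) (k1 • k2 • k1⁻¹ • k2⁻¹ • c) = s j := by
    rw [h.iso k1 (hN hk1), h.iso k2 (hN hk2), h.iso k1⁻¹ (inv_mem (hN hk1))]
    have h5 := h.iso k2 (hN hk2) c (k2⁻¹ • c)
    rw [smul_inv_smul] at h5
    rw [← h5]
    exact Δ.δ_symm_simple hk2j
  have h3 := len3 (cs := cs) (Ne.symm hij)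
  have hl2 : ℓ (s i * s j) = 2 := by
    have := cs.length_mul_le (s i) (s j)
    have := cs.length_mul_le (s i * s j) (s i)
    have := cs.length_simple i
    have := cs.length_simple j
    omega
  have f1 : Δ.δ c (k1 • k2 • c) = s i * s j := Δ.δ_mul_of hk1i e1 (by
    rw [hl2, cs.length_simple, cs.length_simple])
  have f2 : Δ.δ c (k1 • k2 • k1⁻¹ • c) = s i * s j * s i := Δ.δ_mul_of f1 e2 (by
    rw [h3, hl2, cs.length_simple])
  have hx : k1 * k2 * k1⁻¹ * k2⁻¹ ∈ ⁅N, N⁆ := Subgroup.commutator_mem_commutator hk1 hk2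
  have hxc : (k1 * k2 * k1⁻¹ * k2⁻¹) • c = k1 • k2 • k1⁻¹ • k2⁻¹ • c := by
    rw [mul_smul, mul_smul, mul_smul]
  have ri : ℓ (s i * s j * s i * s i) < ℓ (s i * s j * s i) := by
    rw [mul_assoc, cs.simple_mul_simple_self, mul_one, h3, hl2]
    norm_num
  rcases Δ.step c (k1 • k2 • k1⁻¹ • c) (k1 • k2 • k1⁻¹ • k2⁻¹ • c) j e3 with h4 | h4
  · rw [f2] at h4
    rcases cs.length_mul_simple (s i * s j * s i) j with h5 | h5
    · -- length four
      have h6 : Dst Δ ⁅N, N⁆ c (s j) := by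
        refine rd h hN' hn' (w := s i * s j * s i * s j) ⟨_, hx, by rw [hxc, h4]⟩ ?_
        rw [mul_assoc _ (s j) (s j), cs.simple_mul_simple_self, mul_one]
        omega
      exact nb h hN' hn' h6 hiT (Ne.symm hij)
    · -- `s i s j s i s j = s j s i`
      have h6 : ℓ (cs.wordProd [i, j, i] * s j) < ℓ (cs.wordProd [i, j, i]) := by
        rw [cs.wordProd_cons, cs.wordProd_cons, cs.wordProd_singleton, ← mul_assoc]
        omega
      obtain ⟨k, hk, h7⟩ := Exchange.exchange_right cs h6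
      simp only [List.length_cons, List.length_nil] at hk
      rw [cs.wordProd_cons, cs.wordProd_cons, cs.wordProd_singleton, ← mul_assoc] at h7
      interval_cases k
      · have h8 : ([i, j, i] : List I).eraseIdx 0 = [j, i] := rfl
        rw [h8, cs.wordProd_cons, cs.wordProd_singleton] at h7
        refine rd h hN' hn' (w := s j * s i) ⟨_, hx, by rw [hxc, h4, h7]⟩ ?_
        rw [mul_assoc, cs.simple_mul_simple_self, mul_one, cs.length_simple]
        have := cs.length_mul_le (s j) (s i)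
        have h9 := cs.length_inv (s i * s j)
        rw [mul_inv_rev, cs.inv_simple, cs.inv_simple] at h9
        omega
      · exfalso
        have h8 : ([i, j, i] : List I).eraseIdx 1 = [i, i] := rfl
        rw [h8, cs.wordProd_cons, cs.wordProd_singleton, cs.simple_mul_simple_self] at h7
        apply hij
        have h9 : (s i * s j) * (s i * s j) = 1 := by rw [← h7]; group
        rw [mul_eq_one_iff_eq_inv, mul_inv_rev, cs.inv_simple, cs.inv_simple] at h9
        exact h9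
      · exfalso
        have h8 : ([i, j, i] : List I).eraseIdx 2 = [i, j] := rfl
        rw [h8, cs.wordProd_cons, cs.wordProd_singleton, mul_assoc _ (s i) (s j)] at h7
        have h9 : s i * s j = 1 := mul_eq_left.mp h7
        rw [mul_eq_one_iff_eq_inv, cs.inv_simple] at h9
        exact hij (by rw [h9])
  · refine rd h hN' hn' (w := s i * s j * s i) ⟨_, hx, by rw [hxc, h4, f2]⟩ ri

/-- **No node with a neighbour.** -/
theorem no_node [Finite G] (h : MA Δ M' c T) {N : Subgroup G} (hN : N ≤ M') (hn : ∀ m ∈ M', ∀ k ∈ N, m * k * m⁻¹ ∈ N)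
    (hs : Group.IsSolvable N) {i j : I} (hiT : i ∈ T) (hj : j ∈ T) (hij : s i * s j ≠ s j * s i) :
    ¬ Dst Δ N c (s i) := by
  intro hi
  let P : Set (Subgroup G) := {K | K ≤ N ∧ (∀ m ∈ M', ∀ k ∈ K, m * k * m⁻¹ ∈ K) ∧ Dst Δ K c (s i)}
  obtain ⟨K, hK⟩ := (Set.toFinite P).exists_minimal ⟨N, le_rfl, hn, hi⟩
  obtain ⟨⟨hKN, hKn, hKi⟩, hmin⟩ := hK
  have h1 : ⁅K, K⁆ ≤ K := Subgroup.commutator_le_self K
  have h2 : ⁅K, K⁆ ∈ P := by
    refine ⟨h1.trans hKN, ?_, dst_comm h (hKN.trans hN) hKn hKi hiT hj hij⟩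
    intro m hm k hk
    have h1 : K.map (MulAut.conj m).toMonoidHom ≤ K := by
      rintro _ ⟨x, hx, rfl⟩
      exact hKn m hm x hx
    have h2 : (⁅K, K⁆).map (MulAut.conj m).toMonoidHom ≤ ⁅K, K⁆ := by
      rw [Subgroup.map_commutator]
      exact Subgroup.commutator_mono h1 h1
    exact h2 ⟨k, hk, rfl⟩
  have h3 : K = ⁅K, K⁆ := le_antisymm (hmin h2 h1) h1
  have hKs : Group.IsSolvable K := Group.isSolvable_of_isSolvable_injective (Subgroup.inclusion_injective hKN)
  have h4 : K ≠ ⊥ := by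
    rintro rfl
    obtain ⟨k, hk, hkc⟩ := hKi
    rw [Subgroup.mem_bot.1 hk, one_smul] at hkc
    exact Δ.ne_of_δ_simple hkc rfl
  have h5 : (⊤ : Subgroup K) ≠ ⊥ := by
    intro h6
    apply h4
    rw [eq_bot_iff]
    intro x hx
    have h7 : (⟨x, hx⟩ : K) ∈ (⊥ : Subgroup K) := by rw [← h6]; trivial
    rw [Subgroup.mem_bot] at h7 ⊢
    exact congrArg Subtype.val h7
  have h6 := Group.IsSolvable.commutator_lt_of_ne_bot h5
  apply h6.ne
  apply Subgroup.map_injective K.subtype_injective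
  rw [Subgroup.map_commutator, ← MonoidHom.range_eq_map, Subgroup.range_subtype]
  exact h3.symm

/-- **All nodes have neighbours.** -/
theorem fix_of_nb [Finite G] (h : MA Δ M' c T) (hT : ∀ m ∈ M', Δ.δ c (m • c) ∈ WJ cs T) {N : Subgroup G} (hN : N ≤ M')
    (hn : ∀ m ∈ M', ∀ k ∈ N, m * k * m⁻¹ ∈ N) (hs : Group.IsSolvable N)
    (hnb : ∀ i ∈ T, ∃ j ∈ T, s i * s j ≠ s j * s i) : ∀ k ∈ N, k • c = c := by
  intro k hk
  by_contra hne
  have h1 : Δ.δ c (k • c) ≠ 1 := fun h1 => hne (Δ.eq_of_δ_eq_one h1).symm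
  obtain ⟨j, hj⟩ := cs.exists_rightDescent_of_ne_one h1
  have hj : ℓ (Δ.δ c (k • c) * s j) < ℓ (Δ.δ c (k • c)) := hj
  have hjT := F.descent_mem T _ (hT k (hN hk)) j hj
  obtain ⟨i, hi, hij⟩ := hnb j hjT
  exact no_node h hN hn hs hjT hi hij (rd h hN hn ⟨k, hk, rfl⟩ hj)

end Cfsg.Agent.H520.NS
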