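import Mathlib
import Cfsg.Agent.H520.CcpCfg

/-!
# `CCP` and group actions (helper520)

`M` acts on `Δ`, `a : Δ → Δ` with `a (m • δ) = α m • a δ` and `CCP α`.

* `fix_trans` : two fixed points of `a` in one orbit of `M` are in one orbit of the fixed points of `α`;
* `comm_fix` : if `a δ = δ` and `(g⁻¹ α(g)) δ` is fixed by `a` then it is `δ`;
* `fix_all_of_two` : `M` two-transitive, `a` fixes two points: then `a` fixes all points.
-/

set_option autoImplicit false
set_option linter.unusedSectionVars false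

namespace Cfsg.Agent.H520

open Subgroup

variable {M : Type*} [Group M] [Finite M] {D : Type*} [MulAction M D] {α : MulAut M} {a : D → D}

theorem stab_inv (ha : ∀ (m : M) (d : D), a (m • d) = α m • a d) {d : D} (hd : a d = d) :
    ∀ m ∈ MulAction.stabilizer M d, α m ∈ MulAction.stabilizer M d := by
  intro m hm
  rw [MulAction.mem_stabilizer_iff] at hm ⊢
  have h1 := ha m d
  rw [hm, hd] at h1
  exact h1.symm

/-- Two fixed points in one orbit of `M` are in one orbit of the fixed points of `α`. -/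
theorem fix_trans (h : CCP α) (ha : ∀ (m : M) (d : D), a (m • d) = α m • a d) {d e : D} (hd : a d = d)
    (he : a e = e) (hm : ∃ m : M, m • d = e) : ∃ c : M, α c = c ∧ c • d = e := by
  obtain ⟨m, rfl⟩ := hm
  have hS := stab_inv ha hd
  have h1 : m⁻¹ * α m ∈ MulAction.stabilizer M d := by
    rw [MulAction.mem_stabilizer_iff, mul_smul]
    have h2 := ha m d
    rw [hd, he] at h2
    rw [← h2, inv_smul_smul]
  obtain ⟨c, x, hc, e'⟩ := (h.res _ hS) ⟨_, h1⟩
  have hc' : α c.1 = c.1 := congrArg Subtype.val hc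
  have e2 : m⁻¹ * α m = c.1 * (x.1⁻¹ * α x.1) := congrArg Subtype.val e'
  have h3 : (1 : M) = c.1 := h.uniq (g := m) (g' := x.1) (map_one α) hc' (by rw [one_mul, e2])
  rw [← h3, one_mul] at e2
  refine ⟨m * x.1⁻¹, ?_, ?_⟩
  · rw [map_mul, map_inv]
    calc α m * (α x.1)⁻¹ = m * (m⁻¹ * α m) * (α x.1)⁻¹ := by group
      _ = m * x.1⁻¹ := by rw [e2]; group
  · rw [mul_smul]
    congr 1
    have := MulAction.mem_stabilizer_iff.1 x.2
    rw [inv_smul_eq_iff]
    exact this.symm

/-- If `a d = d` and the image of `d` under `g⁻¹ α(g)` is fixed by `a` then it is `d`. -/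
theorem comm_fix (h : CCP α) (ha : ∀ (m : M) (d : D), a (m • d) = α m • a d) {d : D} (hd : a d = d) (g : M)
    (he : a ((g⁻¹ * α g) • d) = (g⁻¹ * α g) • d) : (g⁻¹ * α g) • d = d := by
  obtain ⟨c, hc, e⟩ := fix_trans h ha hd he ⟨_, rfl⟩
  have hS := stab_inv ha hd
  have h1 : c⁻¹ * (g⁻¹ * α g) ∈ MulAction.stabilizer M d := by
    rw [MulAction.mem_stabilizer_iff, mul_smul, ← e, inv_smul_smul]
  obtain ⟨c', x, hc', e'⟩ := (h.res _ hS) ⟨_, h1⟩
  have hc1 : α c'.1 = c'.1 := congrArg Subtype.val hc'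
  have e2 : c⁻¹ * (g⁻¹ * α g) = c'.1 * (x.1⁻¹ * α x.1) := congrArg Subtype.val e'
  have h3 : (1 : M) = c * c'.1 := h.uniq (g := g) (g' := x.1) (map_one α) (by rw [map_mul, hc, hc1]) (by
    rw [one_mul, mul_assoc, ← e2, mul_inv_cancel_left])
  have h4 : c ∈ MulAction.stabilizer M d := by
    have h5 : c = c'.1⁻¹ := eq_inv_of_mul_eq_one_left h3.symm
    rw [h5]
    exact inv_mem c'.2
  rw [← e]
  exact MulAction.mem_stabilizer_iff.1 h4

/-- **Two-transitive groups**: if `a` fixes two points then it fixes all points. -/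
theorem fix_all_of_two (h : CCP α) (ha : ∀ (m : M) (d : D), a (m • d) = α m • a d)
    (h2 : ∀ x y z w : D, x ≠ y → z ≠ w → ∃ m : M, m • x = z ∧ m • y = w) {d e : D} (hde : d ≠ e) (hd : a d = d)
    (he : a e = e) (x : D) : a x = x := by
  by_contra hx
  obtain ⟨m, h3, h4⟩ := h2 x (a x) d e (Ne.symm hx) hde
  have h5 : x = m⁻¹ • d := by rw [← h3, inv_smul_smul]
  have h6 : (m⁻¹⁻¹ * α m⁻¹) • d = e := by
    rw [inv_inv, mul_smul]
    have h7 := ha m⁻¹ d
    rw [hd, ← h5] at h7
    rw [← h7]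
    exact h4
  have h7 := comm_fix h ha hd m⁻¹ (by rw [h6]; exact he)
  rw [h6] at h7
  exact hde h7.symm

end Cfsg.Agent.H520
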