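import Mathlib
import Cfsg.Agent.H520.CcpNS
import Cfsg.Agent.H520.CcpNE0
import Cfsg.Agent.H520.CcpTwo
import Cfsg.Agent.FixOdd.Radical
import Cfsg.Agent.FixBN.Disp
import Cfsg.Agent.SignalizersComponents.ComponentExists

/-!
# Automorphisms fixing a chamber (helper520, S4114)

`t : Tw Δ G` an automorphism `α = t.τ` of a finite group with a split (B, N)-pair, `Cfg α`, `t.θ c = c`.

* `pan_two` : if `θ` fixes two chambers of a panel then it fixes all;
* `fix_pan`, `all_fixed`, `type_false` : type preserving automorphisms fix no chamber;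
* `moved` : the moved nodes are isolated in invariant proper sets of nodes, their panels have solvable stabilisers.
-/

set_option autoImplicit false
set_option linter.unusedSectionVars false

open scoped Pointwise

namespace Cfsg.Agent.H520.NE

open Cfsg.Agent.Tits.Core Cfsg.Agent.Tits.Core.Bldg Cfsg.Agent.Tits Cfsg.Agent.Tits.Exchange
open Cfsg.Agent.FixBN (Sys)
open Cfsg.Agent.FixOdd (Tw)
open Cfsg.Agent.H520.NS

theorem cM_conj {G : Type*} [Group G] {α : MulAut G} {M : Subgroup G} (_hM : ∀ m ∈ M, α m ∈ M) :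
    ∀ m ∈ M, ∀ k ∈ cM α M, m * k * m⁻¹ ∈ cM α M := by
  have key : ∀ x ∈ M, ∀ y ∈ cM α M, x⁻¹ * y * x ∈ cM α M := by
    intro x hx y hy
    unfold cM at hy
    induction hy using Subgroup.closure_induction with
    | mem y hy =>
      obtain ⟨g, hg, rfl⟩ := hy
      have h1 : x⁻¹ * (g⁻¹ * α g) * x = ((g * x)⁻¹ * α (g * x)) * (x⁻¹ * α x)⁻¹ := by
        rw [map_mul]; group
      rw [h1]
      exact mul_mem (mem_cM α (mul_mem hg hx)) (inv_mem (mem_cM α hx))
    | one => simp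
    | mul a b _ _ ha hb =>
      have : x⁻¹ * (a * b) * x = (x⁻¹ * a * x) * (x⁻¹ * b * x) := by group
      rw [this]; exact mul_mem ha hb
    | inv a _ ha =>
      have : x⁻¹ * a⁻¹ * x = (x⁻¹ * a * x)⁻¹ := by group
      rw [this]; exact inv_mem ha
  intro m hm k hk
  have := key m⁻¹ (inv_mem hm) k hk
  rwa [inv_inv] at this

variable {I : Type*} {M : CoxeterMatrix I} {W : Type*} [Group W] {cs : CoxeterSystem M W} {C : Type*}
  {Δ : Bldg cs C} {G : Type*} [Group G] [MulAction G C]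

local prefix:100 "ℓ" => cs.length
local prefix:100 "s" => cs.simple

/-- the powers of an automorphism -/
def pw (t : Tw Δ G) (k : ℕ) : Tw Δ G where
  τ := t.τ ^ k
  θ := t.θ ^ k
  φ := (show MulAut W from t.φ) ^ k
  σ := t.σ ^ k
  φ_simple := by
    induction k with
    | zero => intro i; rfl
    | succ k ih =>
      intro i
      rw [pow_succ', pow_succ', MulAut.mul_apply, ih]
      exact t.φ_simple _
  δ_θ := by
    induction k with
    | zero => intro x y; rfl
    | succ k ih =>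
      intro x y
      rw [pow_succ', pow_succ', MulAut.mul_apply, Equiv.Perm.mul_apply, Equiv.Perm.mul_apply, t.δ_θ, ih]
  θ_smul := by
    induction k with
    | zero => intro g x; rfl
    | succ k ih =>
      intro g x
      rw [pow_succ', pow_succ', MulAut.mul_apply, Equiv.Perm.mul_apply, Equiv.Perm.mul_apply, ih, t.θ_smul]

variable {t : Tw Δ G}

theorem fix_pow {c : C} (h : t.θ c = c) (k : ℕ) : (t.θ ^ k) c = c := by
  induction k with
  | zero => rfl
  | succ k ih => rw [pow_succ', Equiv.Perm.mul_apply, ih, h]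

theorem θ_mem_Pan (hσ : ∀ i, t.σ i = i) {j : I} {x y : C} (h : y ∈ Δ.Pan j x) : t.θ y ∈ Δ.Pan j (t.θ x) := by
  rcases h with rfl | h
  · exact Δ.self_mem_Pan _ _
  · refine Δ.mem_Pan_of_δ ?_
    rw [t.δ_θ, h, t.φ_simple, hσ]

variable [Finite G]

/-- **Two fixed chambers of a panel.** -/
theorem pan_two (hD : ∀ x y x' y' : C, Δ.δ x y = Δ.δ x' y' → ∃ g : G, g • x = x' ∧ g • y = y') (h : CCP t.τ)
    (hσ : ∀ i, t.σ i = i) {j : I} {c d : C} (hd : Δ.δ c d = s j) (hc : t.θ c = c) (hd' : t.θ d = d) :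
    ∀ x ∈ Δ.Pan j c, t.θ x = x := by
  intro x hx
  by_contra hne
  have h1 : t.θ x ∈ Δ.Pan j c := by
    have := θ_mem_Pan hσ hx
    rwa [hc] at this
  have h2 : Δ.δ x (t.θ x) = s j := Δ.δ_eq_of_mem_Pan hx h1 (Ne.symm hne)
  obtain ⟨m, h3, h4⟩ := hD _ _ _ _ (h2.trans hd.symm)
  have h5 : x = m⁻¹ • c := by rw [← h3, inv_smul_smul]
  have h6 : (m⁻¹⁻¹ * t.τ m⁻¹) • c = d := by
    rw [inv_inv, mul_smul]
    have h7 := t.θ_smul m⁻¹ c
    rw [hc, ← h5] at h7
    rw [← h7]
    exact h4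
  have h7 := comm_fix (M := G) (D := C) h t.θ_smul hc m⁻¹ (by rw [h6]; exact hd')
  rw [h6] at h7
  exact Δ.ne_of_δ_simple hd h7.symm

variable [Finite I] [Finite C] {r : ℕ} [hr : Fact r.Prime] [F : OppRes.Cox cs]

/-- A fixed chamber adjacent to `c`. -/
theorem exists_adj (S : Sys Δ G r) (hth : Δ.Thick) (hσ : ∀ i, t.σ i = i) {p : ℕ} [hp : Fact p.Prime] (hpr : p ≠ r)
    (ht : t.θ ^ p = 1) {c : C} (hc : t.θ c = c) (j : I) : ∃ d, Δ.δ c d = s j ∧ t.θ d = d := by
  classical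
  obtain ⟨d0, -, -, hd0, -⟩ := hth c j
  let X := {d : C // Δ.δ c d = s j}
  have hf : ∀ d : X, Δ.δ c (t.θ d.1) = s j := by
    intro d
    have h1 := t.δ_θ c d.1
    rw [hc, d.2, t.φ_simple, hσ] at h1
    exact h1
  let f : X → X := fun d => ⟨t.θ d.1, hf d⟩
  have hval : ∀ (n : ℕ) (d : X), (f^[n] d).1 = (t.θ ^ n) d.1 := by
    intro n
    induction n with
    | zero => intro d; rfl
    | succ n ih =>
      intro d
      rw [Function.iterate_succ_apply, ih, pow_succ, Equiv.Perm.mul_apply]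
  have hfp : f^[p] = id := by
    funext d
    apply Subtype.ext
    rw [hval, ht]
    rfl
  have hcard : ¬ p ∣ Nat.card X := by
    have h1 : (MulAction.orbit (S.U c) d0) = {d | Δ.δ c d = s j} := by
      ext d
      constructor
      · rintro ⟨u, rfl⟩
        show Δ.δ c (u.1 • d0) = s j
        have h2 := S.iso u.1 c d0
        rw [S.fix c u.1 u.2] at h2
        rw [h2, hd0]
      · intro hd
        obtain ⟨u, hu, h2⟩ := S.exists_move (hd0.trans (Eq.symm hd))
        exact ⟨⟨u, hu⟩, h2⟩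
    have h2 : Nat.card X = (MulAction.stabilizer (S.U c) d0).index := by
      rw [MulAction.index_stabilizer, h1]
      rfl
    rw [h2]
    intro h3
    exact Tw.not_dvd_card (p := r) (r := p) hpr (S.isP c) (h3.trans (Subgroup.index_dvd_card _))
  obtain ⟨d, hd⟩ := Tw.exists_fixed f hfp hcard
  exact ⟨d.1, d.2, congrArg Subtype.val hd⟩

/-- the power of prime order -/
structure Pr (t : Tw Δ G) (k p : ℕ) : Prop where
  τ : (t.τ ^ k) ^ p = 1
  θ : (t.θ ^ k) ^ p = 1

/-- Three chambers of each panel at `c`, fixed by the power of prime order. -/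
theorem three (S : Sys Δ G r) (hth : Δ.Thick)
    (hD : ∀ x y x' y' : C, Δ.δ x y = Δ.δ x' y' → ∃ g : G, g • x = x' ∧ g • y = y') (h : CCP t.τ)
    (hσ : ∀ i, t.σ i = i) {k p : ℕ} [hp : Fact p.Prime] (hpr : p ≠ r) (hk : Pr t k p) {c : C} (hc : t.θ c = c) (j : I) :
    ∃ d d', Δ.δ c d = s j ∧ Δ.δ c d' = s j ∧ d ≠ d' ∧ (t.θ ^ k) d = d ∧ (t.θ ^ k) d' = d' := by
  obtain ⟨d, hd, hdk⟩ := exists_adj (t := pw t k) S hth (fun i => by
    have : ∀ n : ℕ, (t.σ ^ n) i = i := by
      intro n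
      induction n with
      | zero => rfl
      | succ n ih => rw [pow_succ', Equiv.Perm.mul_apply, ih, hσ]
    exact this k) hpr hk.θ (fix_pow hc k) j
  have hdk : (t.θ ^ k) d = d := hdk
  by_cases h1 : t.θ d = d
  · have h2 := pan_two hD h hσ hd hc h1
    obtain ⟨y, z, hyz, hy, hz⟩ := hth c j
    exact ⟨y, z, hy, hz, hyz, fix_pow (h2 _ (Δ.mem_Pan_of_δ hy)) k, fix_pow (h2 _ (Δ.mem_Pan_of_δ hz)) k⟩
  · refine ⟨d, t.θ d, hd, ?_, Ne.symm h1, hdk, ?_⟩
    · have h2 := t.δ_θ c d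
      rw [hc, hd, t.φ_simple, hσ] at h2
      exact h2
    · rw [← Equiv.Perm.mul_apply, ← pow_succ, pow_succ', Equiv.Perm.mul_apply, hdk]

/-- fixed points of the power, in a coset of an `r`-group -/
theorem exists_cent_move (S : Sys Δ G r) {k p : ℕ} [hp : Fact p.Prime] (hpr : p ≠ r)
    (hk : Pr t k p) {x y z : C} (hx : (t.θ ^ k) x = x) (hy : (t.θ ^ k) y = y) (hz : (t.θ ^ k) z = z)
    (hyz : Δ.δ x y = Δ.δ x z) : ∃ u ∈ fixA (t.τ ^ k), u ∈ S.U x ∧ u • y = z := by
  obtain ⟨u, hu, huz⟩ := S.exists_move hyz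
  obtain ⟨a, ha, hac, haz⟩ := (pw t k).exists_cent (r := p) ⟨hk.τ, hk.θ⟩ (S.U x) (fun a ha => by
    have h1 := (pw t k).τ_mem_U S ha
    have h2 : (pw t k).θ x = x := hx
    rwa [h2] at h1) (Tw.not_dvd_card (p := r) (r := p) hpr (S.isP x)) (Z := {y}) (Z' := {z}) (by
      rw [Set.image_singleton]; exact congrArg _ hy) (by
      rw [Set.image_singleton]; exact congrArg _ hz) ⟨u, hu, by rw [Set.smul_set_singleton, huz]⟩
  refine ⟨a, hac, ha, ?_⟩
  rw [Set.smul_set_singleton] at haz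
  exact Set.singleton_injective haz

/-- the centraliser of the power moves along the panels -/
theorem ma (S : Sys Δ G r) (hth : Δ.Thick)
    (hD : ∀ x y x' y' : C, Δ.δ x y = Δ.δ x' y' → ∃ g : G, g • x = x' ∧ g • y = y') (h : CCP t.τ)
    (hσ : ∀ i, t.σ i = i) {k p : ℕ} [hp : Fact p.Prime] (hpr : p ≠ r) (hk : Pr t k p) {c : C} (hc : t.θ c = c) :
    MA Δ (fixA (t.τ ^ k)) c Set.univ := by
  have hck := fix_pow hc k
  have hfix : ∀ m ∈ fixA (t.τ ^ k), ∀ d, (t.θ ^ k) d = d → (t.θ ^ k) (m • d) = m • d := by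
    intro m hm d hd
    have h1 := (pw t k).θ_smul m d
    have h2 : (pw t k).τ m = m := hm
    have h3 : (pw t k).θ d = d := hd
    rw [h2, h3] at h1
    exact h1
  refine ⟨fun m _ => S.iso m, fun m hm j hj => ?_, fun j _ => ?_⟩
  · obtain ⟨d, d', hd, hd', hne, hdk, hdk'⟩ := three S hth hD h hσ hpr hk hc j
    have e1 : Δ.δ (m • c) (m • d) = s j := by rw [S.iso, hd]
    have e2 : Δ.δ (m • c) (m • d') = s j := by rw [S.iso, hd']
    have key : ∃ z, (t.θ ^ k) z = z ∧ Δ.δ (m • c) z = s j ∧ Δ.δ c z = Δ.δ c (m • c) := by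
      rcases Δ.step c _ _ j e1 with h1 | h1
      · rcases Δ.step c _ _ j e2 with h2 | h2
        · exfalso
          have e3 : Δ.δ (m • d) (m • d') = s j := by
            rw [S.iso]
            exact Δ.δ_eq_of_mem_Pan (Δ.mem_Pan_of_δ hd) (Δ.mem_Pan_of_δ hd') hne
          have h3 := Δ.step_lt c _ _ j e3 (by
            rw [h1, mul_assoc, cs.simple_mul_simple_self, mul_one]; exact hj)
          rw [h1, mul_assoc, cs.simple_mul_simple_self, mul_one] at h3
          rw [h3] at h2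
          rw [← h2] at hj
          exact lt_irrefl _ hj
        · exact ⟨_, hfix m hm _ hdk', e2, h2⟩
      · exact ⟨_, hfix m hm _ hdk, e1, h1⟩
    obtain ⟨z, hz, h1, h2⟩ := key
    obtain ⟨u, hu, hux, huz⟩ := exists_cent_move S hpr hk hck (hfix m hm _ hck) hz h2.symm
    exact ⟨u, hu, S.fix c u hux, by rw [huz, h1]⟩
  · obtain ⟨d, d', hd, hd', hne, hdk, hdk'⟩ := three S hth hD h hσ hpr hk hc j
    have e1 : Δ.δ d' c = s j := Δ.δ_symm_simple hd'
    have e2 : Δ.δ d' d = s j := Δ.δ_eq_of_mem_Pan (Δ.mem_Pan_of_δ hd') (Δ.mem_Pan_of_δ hd) (Ne.symm hne)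
    obtain ⟨u, hu, -, huz⟩ := exists_cent_move S hpr hk hdk' hck hdk (e1.trans e2.symm)
    exact ⟨u, hu, by rw [huz, hd]⟩

/-- **The panels at a fixed chamber.** -/
theorem fix_pan (S : Sys Δ G r) (hth : Δ.Thick)
    (hD : ∀ x y x' y' : C, Δ.δ x y = Δ.δ x' y' → ∃ g : G, g • x = x' ∧ g • y = y') (h : Cfg t.τ)
    (hσ : ∀ i, t.σ i = i) (hnb : ∀ i, ∃ j, s i * s j ≠ s j * s i) {k p : ℕ} [hp : Fact p.Prime] (hpr : p ≠ r)
    (hk : Pr t k p) (hk1 : t.τ ^ k ≠ 1) {c : C} (hc : t.θ c = c) (j : I) : ∀ z ∈ Δ.Pan j c, t.θ z = z := by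
  have hx : t.τ ^ k ∈ Subgroup.zpowers t.τ := Subgroup.pow_mem _ (Subgroup.mem_zpowers _) _
  have hM := Cfg.fixA_inv (Cfg.comm_zpowers hx (Subgroup.mem_zpowers t.τ))
  have hsol := Cfg.solv_fix h hx hk1
  have hMA := ma S hth hD h.ccp hσ hpr hk hc
  have hK := fix_of_nb hMA (fun m _ => by rw [WJ_univ]; trivial) (cM_le _ hM) (cM_conj hM) hsol (fun i _ => by
    obtain ⟨j, hj⟩ := hnb i
    exact ⟨j, Set.mem_univ _, hj⟩)
  obtain ⟨m, hm, hmj⟩ := hMA.ad j (Set.mem_univ _)
  refine pan_two hD h.ccp hσ hmj hc ?_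
  rw [t.θ_smul, hc]
  have h1 := hK _ (mem_cM t.τ hm)
  rw [mul_smul, inv_smul_eq_iff] at h1
  exact h1

/-- an automorphism acting trivially on the chambers -/
theorem eq_one_of_θ [Nonempty I] (S : Sys Δ G r) (hth : Δ.Thick) [Nonempty C]
    (hsim : IsSimpleGroup G) (h : t.θ = 1) : t.τ = 1 := by
  let N : Subgroup G := (MulAction.toPermHom G C).ker
  have hN : N = ⊥ ∨ N = ⊤ := (inferInstance : N.Normal).eq_bot_or_eq_top
  rcases hN with hN | hN
  · ext g
    have h1 : g⁻¹ * t.τ g ∈ N := by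
      rw [MonoidHom.mem_ker]
      ext x
      show (g⁻¹ * t.τ g) • x = x
      have h2 := t.θ_smul g x
      rw [h] at h2
      have h3 : g • x = t.τ g • x := h2
      rw [mul_smul, ← h3, inv_smul_smul]
    rw [hN, Subgroup.mem_bot, inv_mul_eq_one] at h1
    exact h1.symm
  · exfalso
    obtain ⟨c⟩ := (inferInstance : Nonempty C)
    obtain ⟨j⟩ := (inferInstance : Nonempty I)
    obtain ⟨y, z, hyz, hy, hz⟩ := hth c j
    obtain ⟨u, hu, huz⟩ := S.exists_move (hy.trans hz.symm)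
    have h1 : u ∈ N := by rw [hN]; trivial
    rw [MonoidHom.mem_ker] at h1
    have h2 : u • y = y := congrArg (fun f : Equiv.Perm C => f y) h1
    exact hyz (h2.symm.trans huz)

/-- **A type preserving automorphism with `Cfg` fixes no chamber.** -/
theorem type_false [Nonempty I] (S : Sys Δ G r) (hth : Δ.Thick)
    (hD : ∀ x y x' y' : C, Δ.δ x y = Δ.δ x' y' → ∃ g : G, g • x = x' ∧ g • y = y') (h : Cfg t.τ)
    (hrG : r ∣ Nat.card G) (hσ : ∀ i, t.σ i = i) (hnb : ∀ i, ∃ j, s i * s j ≠ s j * s i)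
    (hθ : ∀ n : ℕ, t.τ ^ n = 1 → t.θ ^ n = 1) {c : C} (hc : t.θ c = c) : False := by
  obtain ⟨p, hp, hpr, hpd⟩ := h.exists_prime_ne hr.out hrG
  have : Fact p.Prime := ⟨hp⟩
  have hn : orderOf t.τ ≠ 0 := (orderOf_pos _).ne'
  set k := orderOf t.τ / p with hk
  have hord : orderOf (t.τ ^ k) = p := orderOf_pow_orderOf_div hn hpd
  have h1 : (t.τ ^ k) ^ p = 1 := by rw [← hord]; exact pow_orderOf_eq_one _
  have h2 : (t.θ ^ k) ^ p = 1 := by
    rw [← pow_mul]
    apply hθ
    rw [pow_mul]; exact h1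
  have hk1 : t.τ ^ k ≠ 1 := by
    intro h3
    rw [h3, orderOf_one] at hord
    exact hp.one_lt.ne hord
  have hall : ∀ y, t.θ y = y := by
    intro y
    refine Δ.Res_induction (J := Set.univ) (x := c) (p := fun y => t.θ y = y) hc ?_ (by
      rw [Bldg.Res_univ]; trivial)
    intro y _ z i _ hyz hy
    exact fix_pan S hth hD h hσ hnb hpr ⟨h1, h2⟩ hk1 hy i z (Δ.mem_Pan_of_δ hyz)
  have : Nonempty C := ⟨c⟩
  exact h.ne (eq_one_of_θ S hth h.sim (Equiv.ext hall))

/-! ### Moved nodes -/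

/-- the stabiliser of a residue moves along the panels -/
theorem ma_res (S : Sys Δ G r) (hth : Δ.Thick)
    (hD : ∀ x y x' y' : C, Δ.δ x y = Δ.δ x' y' → ∃ g : G, g • x = x' ∧ g • y = y') {T : Set I} {c : C} :
    MA Δ (MulAction.stabilizer G (Δ.Res T c)) c T := by
  refine ⟨fun m _ => S.iso m, fun m hm j hj => ?_, fun j hj => ?_⟩
  · obtain ⟨y, z, hyz, hy, hz⟩ := hth (m • c) j
    have key : ∃ z, Δ.δ (m • c) z = s j ∧ Δ.δ c z = Δ.δ c (m • c) := by
      rcases Δ.step c _ _ j hy with h1 | h1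
      · rcases Δ.step c _ _ j hz with h2 | h2
        · exfalso
          have e3 : Δ.δ y z = s j := Δ.δ_eq_of_mem_Pan (Δ.mem_Pan_of_δ hy) (Δ.mem_Pan_of_δ hz) hyz
          have h3 := Δ.step_lt c _ _ j e3 (by
            rw [h1, mul_assoc, cs.simple_mul_simple_self, mul_one]; exact hj)
          rw [h1, mul_assoc, cs.simple_mul_simple_self, mul_one] at h3
          rw [h3] at h2
          rw [← h2] at hj
          exact lt_irrefl _ hj
        · exact ⟨_, hz, h2⟩
      · exact ⟨_, hy, h1⟩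
    obtain ⟨z, h1, h2⟩ := key
    obtain ⟨g, hg, hgz⟩ := hD c (m • c) c z h2.symm
    refine ⟨g, ?_, hg, by rw [hgz, h1]⟩
    rw [MulAction.mem_stabilizer_iff, S.smul_Res, hg]
  · obtain ⟨y, -, -, hy, -⟩ := hth c j
    obtain ⟨g, hg, -⟩ := hD c c y y (by rw [Δ.δ_self, Δ.δ_self])
    refine ⟨g, ?_, by rw [hg, hy]⟩
    rw [MulAction.mem_stabilizer_iff, S.smul_Res, hg]
    exact Δ.Res_eq_of_mem (Δ.Pan_subset_Res hj c (Δ.mem_Pan_of_δ hy))

theorem mem_stab_res (S : Sys Δ G r) {T : Set I} {c : C} {m : G} :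
    m ∈ MulAction.stabilizer G (Δ.Res T c) ↔ m • c ∈ Δ.Res T c := by
  rw [MulAction.mem_stabilizer_iff, S.smul_Res]
  constructor
  · intro h
    rw [← h]
    exact Δ.self_mem_Res _ _
  · intro h
    exact Δ.Res_eq_of_mem h

/-- **The moved nodes.** -/
theorem moved (S : Sys Δ G r) (hth : Δ.Thick)
    (hD : ∀ x y x' y' : C, Δ.δ x y = Δ.δ x' y' → ∃ g : G, g • x = x' ∧ g • y = y') (h : Cfg t.τ) {c : C}
    (hc : t.θ c = c) {T : Set I} (hT : T ≠ Set.univ) (hst : ∀ i ∈ T, t.σ i ∈ T) {i : I} (hi : i ∈ T)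
    (hi' : t.σ i ≠ i) : (∀ j ∈ T, s i * s j = s j * s i) ∧
      (Group.IsSolvable (MulAction.stabilizer G c) → Group.IsSolvable (MulAction.stabilizer G (Δ.Pan i c))) := by
  set P := MulAction.stabilizer G (Δ.Res T c) with hP
  have hPinv : ∀ m ∈ P, t.τ m ∈ P := by
    intro m hm
    rw [hP, mem_stab_res S] at hm ⊢
    have h1 := t.θ_mem_Res hst hm
    rwa [t.θ_smul, hc] at h1
  have hPne : P ≠ ⊤ := by
    intro htop
    obtain ⟨j, hj⟩ := (Set.ne_univ_iff_exists_notMem T).1 hT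
    obtain ⟨y, -, -, hy, -⟩ := hth c j
    obtain ⟨g, hg, -⟩ := hD c c y y (by rw [Δ.δ_self, Δ.δ_self])
    have h1 : g ∈ P := by rw [htop]; trivial
    rw [hP, mem_stab_res S, hg, mem_Res, hy] at h1
    exact hj (F.descent_mem T _ h1 j (by rw [cs.simple_mul_simple_self, cs.length_one, cs.length_simple]; norm_num))
  have hsol := h.min P hPne hPinv
  have hMA := ma_res S hth hD (T := T) (c := c)
  set K := cM t.τ P with hK
  have hKle : K ≤ P := cM_le _ hPinv
  have hKn := cM_conj hPinv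
  have hst' : ∀ i ∈ T, t.σ⁻¹ i ∈ T := by
    intro i hi
    have h1 : ∀ n : ℕ, (t.σ ^ n) i ∈ T := by
      intro n
      induction n with
      | zero => exact hi
      | succ n ih => rw [pow_succ', Equiv.Perm.mul_apply]; exact hst _ ih
    have : Finite (Equiv.Perm I) := inferInstance
    obtain ⟨n, hn⟩ : ∃ n : ℕ, t.σ⁻¹ = t.σ ^ n := by
      refine ⟨orderOf t.σ - 1, ?_⟩
      rw [inv_eq_iff_mul_eq_one, ← pow_succ', Nat.sub_add_cancel (orderOf_pos _), pow_orderOf_eq_one]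
    rw [hn]
    exact h1 n
  -- moved nodes
  have key : ∀ i ∈ T, t.σ i ≠ i → Dst Δ K c (s (t.σ i)) := by
    intro i hi hi'
    obtain ⟨m, hm, hmi⟩ := hMA.ad i hi
    have h1 : Δ.δ c (t.τ m • c) = s (t.σ i) := by
      have h2 := t.δ_θ c (m • c)
      rw [hc, t.θ_smul, hc, hmi, t.φ_simple] at h2
      exact h2
    have h2 : Δ.δ c ((m⁻¹ * t.τ m) • c) = s i * s (t.σ i) := by
      have h3 := S.iso m c ((m⁻¹ * t.τ m) • c)
      rw [← mul_smul, mul_inv_cancel_left] at h3
      rw [← h3]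
      have hl : ℓ (s i * s (t.σ i)) = 2 := by
        rcases cs.length_mul_simple (s i) (t.σ i) with h4 | h4
        · rw [h4, cs.length_simple]
        · exfalso
          rw [cs.length_simple] at h4
          have h5 : ℓ (s i * s (t.σ i)) = 0 := by omega
          rw [cs.length_eq_zero_iff, mul_eq_one_iff_eq_inv, cs.inv_simple] at h5
          exact hi' (F.inj h5).symm
      exact Δ.δ_mul_of (Δ.δ_symm_simple hmi) h1 (by rw [hl, cs.length_simple, cs.length_simple])
    refine rd hMA hKle hKn ⟨_, mem_cM t.τ hm, h2⟩ ?_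
    rw [mul_assoc, cs.simple_mul_simple_self, mul_one, cs.length_simple]
    have h3 : ℓ (s i * s (t.σ i)) ≠ 0 := by
      rw [Ne, cs.length_eq_zero_iff, mul_eq_one_iff_eq_inv, cs.inv_simple]
      exact fun h => hi' (F.inj h).symm
    have h4 := cs.length_mul_simple_ne (s i) (t.σ i)
    rw [cs.length_simple] at h4
    omega
  have hDi : Dst Δ K c (s i) := by
    have h1 := key (t.σ⁻¹ i) (hst' i hi) (fun h => hi' (by
      have h2 : t.σ (t.σ⁻¹ i) = i := Equiv.apply_symm_apply t.σ i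
      rw [h2] at h
      have := congrArg t.σ h
      rw [h2] at this
      exact this))
    have h2 : t.σ (t.σ⁻¹ i) = i := Equiv.apply_symm_apply t.σ i
    rwa [h2] at h1
  refine ⟨fun j hj => ?_, fun hB => ?_⟩
  · by_contra hne
    exact no_node hMA hKle hKn hsol hi hj hne hDi
  · -- solvability
    set B := MulAction.stabilizer G c with hBdef
    have hBP : B ≤ P := by
      intro b hb
      rw [hP, mem_stab_res S, show b • c = c from hb]
      exact Δ.self_mem_Res _ _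
    have hle : MulAction.stabilizer G (Δ.Pan i c) ≤ K ⊔ B := by
      intro g hg
      rw [Δ.Pan_eq_Res, mem_stab_res S, ← Δ.Pan_eq_Res] at hg
      rcases hg with hg | hg
      · exact (le_sup_right : B ≤ K ⊔ B) hg
      · obtain ⟨k, hk, hki⟩ := hDi
        obtain ⟨u, hu, huk⟩ := hD c (k • c) c (g • c) (hki.trans hg.symm)
        have h1 : (u * k)⁻¹ * g ∈ B := by
          show ((u * k)⁻¹ * g) • c = c
          rw [mul_smul, inv_smul_eq_iff, mul_smul, huk]
        have h2 : g = u * k * ((u * k)⁻¹ * g) := by group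
        rw [h2]
        exact mul_mem (mul_mem ((le_sup_right : B ≤ K ⊔ B) hu) ((le_sup_left : K ≤ K ⊔ B) hk))
          ((le_sup_right : B ≤ K ⊔ B) h1)
    have hs : Group.IsSolvable ↥(K ⊔ B) := by
      have hn : (K.subgroupOf P).Normal := ⟨fun n hn' g => by
        rw [Subgroup.mem_subgroupOf] at hn' ⊢
        exact hKn g g.2 n hn'⟩
      have h1 : (K ⊔ B).subgroupOf P = K.subgroupOf P ⊔ B.subgroupOf P := Subgroup.subgroupOf_sup hKle hBP
      have h2 : Group.IsSolvable ↥(K.subgroupOf P) :=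
        Group.isSolvable_of_surjective (f := (Subgroup.subgroupOfEquivOfLe hKle).symm.toMonoidHom)
          (Subgroup.subgroupOfEquivOfLe hKle).symm.surjective
      have h3 : Group.IsSolvable ↥(B.subgroupOf P) :=
        Group.isSolvable_of_surjective (f := (Subgroup.subgroupOfEquivOfLe hBP).symm.toMonoidHom)
          (Subgroup.subgroupOfEquivOfLe hBP).symm.surjective
      have h4 : Group.IsSolvable ↥(K.subgroupOf P ⊔ B.subgroupOf P) := by
        have := Cfsg.Agent.SignalizersComponents.ComponentExists.isSolvable_sup_of_normal h3 h2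
        rwa [sup_comm]
      rw [← h1] at h4
      exact Group.isSolvable_of_surjective (f := (Subgroup.subgroupOfEquivOfLe (sup_le hKle hBP)).toMonoidHom)
        (Subgroup.subgroupOfEquivOfLe (sup_le hKle hBP)).surjective
    exact Group.isSolvable_of_isSolvable_injective (Subgroup.inclusion_injective hle)

end Cfsg.Agent.H520.NE
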