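import Cfsg.Agent.H497.Stein.Mat
import Cfsg.Agent.H497.Stein.Jan
import Cfsg.Agent.H497.Stein.HSMc
import Cfsg.Agent.H497.Stein.Th
import Cfsg.Agent.H859.Ccp.Co1
import Cfsg.Agent.H859.Ccp.Co2
import Cfsg.Agent.H859.Ccp.He
import Cfsg.Agent.H859.Ccp.J4
import Cfsg.Agent.H859.Ccp.ON
import Cfsg.Agent.H859.Ccp.Ru
import Cfsg.Agent.H859.Ccp.Suz
import Cfsg.Agent.H763.Ccp.Ly
import Cfsg.Agent.H763.Ccp.B
import Cfsg.Agent.H230.Ccp.Co3
import Cfsg.Agent.H285.Ccp.HN
import Cfsg.Agent.H285.Ccp.Fi23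
import Cfsg.Agent.H999.Ccp.Fi24
import Cfsg.Agent.H979.Ccp.Mon

/-!
# The rows of the sporadic groups (helper520, S4114)
-/

set_option autoImplicit false

namespace Cfsg.Agent.H520.Spor

open Cfsg Cfsg.Agent.H520

/-- **The rows of the sporadic groups.** -/
theorem row_spor
    (hFi22 : ∀ (K : Type) [Group K] [Finite K], Spor.IsoFi22 K → Row K)
    (K : Type) [Group K] [Finite K] (h : IsSporadicGroup K) : Row K := by
  rcases h with h | h | h | h | h | h | h | h | h | h | h | h | h | h | h | h | h | h | h | h | h | h | h | h | h | h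
  · exact H497.Stein.row_M11 h
  · exact H497.Stein.row_M12 h
  · exact H497.Stein.row_M22 h
  · exact H497.Stein.row_M23 h
  · exact H497.Stein.row_M24 h
  · exact H497.Stein.row_J1 h
  · exact H497.Stein.row_J2 h
  · exact H497.Stein.row_J3 h
  · exact H859.Ccp.J4.row_J4 h
  · exact H859.Ccp.Co1.row_Co1 h
  · exact H859.Ccp.Co2.row_Co2 h
  · exact H230.Ccp.Co3.row_Co3 h
  · exact H497.Stein.row_McL h
  · exact H497.Stein.row_HS h
  · exact H859.Ccp.Suz.row_Suz h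
  · exact H859.Ccp.He.row_He h
  · exact H859.Ccp.Ru.row_Ru h
  · exact H859.Ccp.ON.row_ON h
  · exact H763.Ccp.Ly.row_Ly h
  · exact hFi22 K h
  · exact H285.Ccp.FiTh.row_Fi23 h
  · exact H999.Ccp.FiTF.row_Fi24' h
  · exact H285.Ccp.HN.row_HN h
  · exact H497.Stein.Th.row_Th h
  · exact H763.Ccp.B.row_B h
  · exact H979.Ccp.Mon.row_M h

end Cfsg.Agent.H520.Spor
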