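import Cfsg.Agent.H520.CcpSpor
import Cfsg.Agent.H979.Ccp.Fi22

/-!
# The rows of the sporadic groups, all of them (helper520, S4114)
-/

set_option autoImplicit false

namespace Cfsg.Agent.H520.Spor

open Cfsg Cfsg.Agent.H520

/-- **The rows of the sporadic groups.** -/
theorem row_spor_all (K : Type) [Group K] [Finite K] (h : IsSporadicGroup K) : Row K :=
  row_spor (fun _ _ _ h => H979.Ccp.FiTT.row_Fi22 h) K h

end Cfsg.Agent.H520.Spor
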