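import Mathlib
import Cfsg.Agent.H520.Glob
import Cfsg.Agent.Lib.NilpotentCoprime
import Cfsg.Agent.Lib.NormalAbelian

/-!
# Commutators `g⁻¹ α(g)` of a coprime automorphism: the nilpotent part (helper520)

`nilp_of_solv` : if `[G, α]` is solvable for all `(G, α)` with nilpotent pairs of commutators then `[G, α]` is nilpotent.
-/

set_option autoImplicit false

namespace Cfsg.Agent.H520

open Subgroup Cfsg.Agent.H566

universe u

/-- every pair of commutators generates a nilpotent group -/
def PN {G : Type*} [Group G] (α : MulAut G) : Prop :=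
  ∀ g h : G, Group.IsNilpotent (closure ({g⁻¹ * α g, h⁻¹ * α h} : Set G))

theorem nilp_map {G H : Type*} [Group G] [Group H] (f : G →* H) {S : Subgroup G} (h : Group.IsNilpotent S) :
    Group.IsNilpotent (S.map f) :=
  Group.nilpotent_of_surjective (f.subgroupMap S) (f.subgroupMap_surjective S)

theorem nilp_of_map {G H : Type*} [Group G] [Group H] (f : G →* H) {S : Subgroup G}
    (hf : ∀ x ∈ S, f x = 1 → x = 1) (h : Group.IsNilpotent (S.map f)) : Group.IsNilpotent S := by
  have hi : Function.Injective (f.subgroupMap S) := by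
    rw [injective_iff_map_eq_one]
    rintro ⟨x, hx⟩ h1
    exact Subtype.ext (hf x hx (congrArg Subtype.val h1))
  have h1 : Group.IsNilpotent (f.subgroupMap S).range := inferInstance
  exact Group.nilpotent_of_surjective (MonoidHom.ofInjective hi).symm.toMonoidHom (MonoidHom.ofInjective hi).symm.surjective

theorem map_pair' {G H : Type*} [Group G] [Group H] (f : G →* H) (a b : G) :
    (closure ({a, b} : Set G)).map f = closure {f a, f b} := by
  rw [MonoidHom.map_closure, Set.image_pair]

theorem PN.res {G : Type*} [Group G] [Finite G] {α : MulAut G} (h : PN α) (M : Subgroup G) (hM : ∀ m ∈ M, α m ∈ M) :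
    PN (resA α M hM) := by
  intro x y
  apply nilp_of_map M.subtype (fun x _ h1 => Subtype.ext h1)
  rw [map_pair']
  exact h x y

theorem PN.quo {G : Type*} [Group G] [Finite G] {α : MulAut G} (h : PN α) (N : Subgroup G) [N.Normal]
    (hN : ∀ m ∈ N, α m ∈ N) : PN (quoA α N hN) := by
  intro x y
  obtain ⟨x, rfl⟩ := QuotientGroup.mk'_surjective N x
  obtain ⟨y, rfl⟩ := QuotientGroup.mk'_surjective N y
  have h1 := nilp_map (QuotientGroup.mk' N) (h x y)
  rw [map_pair'] at h1
  exact h1

/-- `[G, α, α] = [G, α]` -/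
theorem cM_cG {G : Type*} [Group G] [Finite G] {α : MulAut G} (hα : (orderOf α).Coprime (Nat.card G)) :
    cM α (cG α) = cG α := by
  apply le_antisymm
  · rw [← cM_top α]
    exact cM_mono α le_top
  · have hst : Stab (zpowers α) (cG α) := stab_zpowers.2 (cG_inv α)
    let S : Subgroup (MulAut G) :=
      { carrier := {a | ∀ g : G, g⁻¹ * a g ∈ cG α}
        mul_mem' := by
          intro a b ha hb g
          have h1 : g⁻¹ * (a * b) g = (g⁻¹ * b g) * ((b g)⁻¹ * a (b g)) := by
            rw [MulAut.mul_apply]; group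
          rw [h1]
          exact mul_mem (hb g) (ha (b g))
        one_mem' := by
          intro g
          rw [MulAut.one_apply, inv_mul_cancel]
          exact one_mem _
        inv_mem' := by
          intro a ha g
          have h1 : g⁻¹ * a⁻¹ g = ((a⁻¹ g)⁻¹ * a (a⁻¹ g))⁻¹ := by
            rw [MulAut.apply_inv_self]; group
          rw [h1]
          exact inv_mem (ha _) }
    have hS : zpowers α ≤ S := by
      rw [zpowers_le]
      exact fun g => mem_cG α g
    unfold cG
    rw [closure_le]
    rintro _ ⟨g, rfl⟩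
    have hcop : (Nat.card (zpowers α)).Coprime (Nat.card (cG α)) := by
      rw [Nat.card_zpowers]
      exact Nat.Coprime.coprime_dvd_right (card_subgroup_dvd_card _) hα
    obtain ⟨n, hn, hf⟩ := exists_fixed_coset hst hcop (Or.inl inferInstance) (g := g) (fun a ha => hS ha g)
    have h1 : α (g * n) = g * n := hf α (mem_zpowers α)
    have h2 : g⁻¹ * α g = (n⁻¹)⁻¹ * α n⁻¹ := by
      rw [map_mul] at h1
      rw [inv_inv, map_inv, eq_mul_inv_iff_mul_eq, mul_assoc, h1]
      group
    rw [h2]
    exact mem_cM α (inv_mem hn)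

/-- a minimal invariant normal subgroup of a solvable group -/
theorem exists_min_inv {G : Type*} [Group G] [Finite G] [Nontrivial G] (hs : Group.IsSolvable G) (α : MulAut G) :
    ∃ (l : ℕ) (D : Subgroup G), l.Prime ∧ D.Normal ∧ D ≠ ⊥ ∧ (∀ d ∈ D, α d ∈ D) ∧ IsPGroup l D ∧
      (∀ a ∈ D, ∀ b ∈ D, a * b = b * a) ∧
      ∀ E : Subgroup G, E.Normal → E ≠ ⊥ → (∀ e ∈ E, α e ∈ E) → E ≤ D → E = D := by
  obtain ⟨D, ⟨hD1, hD2, hD3⟩, hmin⟩ := Set.exists_min_image
    {D : Subgroup G | D.Normal ∧ D ≠ ⊥ ∧ ∀ d ∈ D, α d ∈ D}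
    (fun D : Subgroup G => Nat.card D) (Set.toFinite _) ⟨⊤, inferInstance, top_ne_bot, fun d _ => mem_top _⟩
  have hmin' : ∀ E : Subgroup G, E.Normal → E ≠ ⊥ → (∀ e ∈ E, α e ∈ E) → E ≤ D → E = D :=
    fun E h1 h2 h3 h4 => eq_of_le_of_card_ge h4 (hmin _ ⟨h1, h2, h3⟩)
  have hcomm : ∀ a ∈ D, ∀ b ∈ D, a * b = b * a := by
    have hDnt : Nontrivial D := (nontrivial_iff_ne_bot D).2 hD2
    have h1 := Group.IsSolvable.commutator_lt_top_of_nontrivial (G := D)
    have h2 : ⁅D, D⁆ ≤ D := commutator_le_left D D
    have h3 : ⁅D, D⁆ = ⊥ := by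
      by_contra hne
      have hinv : ∀ e ∈ ⁅D, D⁆, α e ∈ ⁅D, D⁆ := by
        have h5 : (⁅D, D⁆).map α.toMonoidHom = ⁅D, D⁆ := by
          rw [map_commutator, map_eq_of_inv hD3]
        intro e he
        rw [← h5]
        exact mem_map_of_mem _ he
      have h4 : D = ⁅D, D⁆ := (hmin' _ inferInstance hne hinv h2).symm
      apply h1.ne
      have h5 : (commutator D).map D.subtype = ⁅D, D⁆ := by
        rw [commutator_def, map_commutator, ← MonoidHom.range_eq_map, range_subtype]
      have h6 : (commutator D).map D.subtype = (⊤ : Subgroup D).map D.subtype := by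
        rw [h5, ← h4, ← MonoidHom.range_eq_map, range_subtype]
      exact map_injective D.subtype_injective h6
    intro a ha b hb
    have h4 := commutator_mem_commutator ha hb
    rw [h3, mem_bot, commutatorElement_eq_one_iff_mul_comm] at h4
    exact h4
  have hc1 : Nat.card D ≠ 1 := fun h => hD2 (card_eq_one.1 h)
  obtain ⟨l, hl, hld⟩ := Nat.exists_prime_and_dvd hc1
  have hlf : Fact l.Prime := ⟨hl⟩
  obtain ⟨x, hx⟩ := exists_prime_orderOf_dvd_card' l hld
  let R : Subgroup G :=
    { carrier := {y | y ∈ D ∧ y ^ l = 1}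
      mul_mem' := fun {a b} ha hb => ⟨mul_mem ha.1 hb.1, by
        have : Commute a b := hcomm a ha.1 b hb.1
        rw [this.mul_pow, ha.2, hb.2, one_mul]⟩
      one_mem' := ⟨one_mem _, one_pow _⟩
      inv_mem' := fun {a} ha => ⟨inv_mem ha.1, by rw [inv_pow, ha.2, inv_one]⟩ }
  have hR : R = D := by
    apply hmin'
    · refine ⟨?_⟩
      rintro y ⟨hy, hyl⟩ g
      refine ⟨hD1.conj_mem y hy g, ?_⟩
      rw [conj_pow, hyl, mul_one, mul_inv_cancel]
    · intro hR
      have h1 : (x : G) ∈ R := ⟨x.2, by
        rw [← SubgroupClass.coe_pow, ← hx, pow_orderOf_eq_one]; rfl⟩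
      rw [hR, mem_bot] at h1
      have h2 : x = 1 := Subtype.ext h1
      rw [h2, orderOf_one] at hx
      exact hl.ne_one hx.symm
    · rintro y ⟨hy, hyl⟩
      exact ⟨hD3 y hy, by rw [← map_pow, hyl, map_one]⟩
    · exact fun y hy => hy.1
  refine ⟨l, D, hl, hD1, hD2, hD3, ?_, hcomm, hmin'⟩
  rintro ⟨y, hy⟩
  rw [← hR] at hy
  exact ⟨1, by
    apply Subtype.ext
    rw [pow_one]
    exact hy.2⟩

/-- an element of a group `G` with a normal Sylow `l`-subgroup `R` is a power of its `l^k`-th power modulo `R` -/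
theorem exists_pow_mod {G : Type*} [Group G] [Finite G] {l : ℕ} [Fact l.Prime] (R : Sylow l G)
    (hR : (R : Subgroup G).Normal) (y : G) (k : ℕ) :
    ∃ b : ℕ, ∃ r ∈ (R : Subgroup G), y = (y ^ l ^ k) ^ b * r := by
  have h1 : Nat.Coprime (l ^ k) (R : Subgroup G).index :=
    Nat.Coprime.pow_left k ((Nat.Prime.coprime_iff_not_dvd Fact.out).2 R.not_dvd_index)
  have h2 : (l ^ k).Coprime (orderOf (y : G ⧸ (R : Subgroup G))) :=
    Nat.Coprime.coprime_dvd_right (orderOf_dvd_natCard _) h1
  obtain ⟨b, hb⟩ := exists_pow_eq_self_of_coprime h2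
  refine ⟨b, ((y ^ l ^ k) ^ b)⁻¹ * y, ?_, by group⟩
  exact QuotientGroup.eq.1 hb

theorem nilp_of_solv (hsolv : ∀ (G : Type u) [Group G] [Finite G] (α : MulAut G),
      (orderOf α).Coprime (Nat.card G) → PN α → Group.IsSolvable (cG α)) :
    ∀ (G : Type u) [Group G] [Finite G] (α : MulAut G), (orderOf α).Coprime (Nat.card G) → PN α →
      Group.IsNilpotent (cG α) := by
  intro G _ _
  induction hn : Nat.card G using Nat.strong_induction_on generalizing G with
  | _ n ih =>
  subst hn
  intro α hα hP
  by_cases htop : cG α = ⊤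
  swap
  · -- the subgroup `[G, α]`
    have h1 : Nat.card (cG α) < Nat.card G :=
      lt_of_le_of_ne (cG α).card_le_card_group fun h => htop (eq_top_of_card_eq _ h)
    have h2 := ih _ h1 (cG α) rfl _ (coprime_resA hα _ (cG_inv α)) (hP.res _ (cG_inv α))
    have h3 := nilp_map (cG α).subtype h2
    rw [map_cG_resA, cM_cG hα] at h3
    exact h3
  have hs : Group.IsSolvable G := by
    have h1 := hsolv G α hα hP
    rw [htop] at h1
    exact Group.isSolvable_of_surjective (f := (topEquiv (G := G)).toMonoidHom) topEquiv.surjective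
  have htopN : Group.IsNilpotent G → Group.IsNilpotent (cG α) := fun h => inferInstance
  apply htopN
  by_contra hnn
  have hnt : Nontrivial G := by
    by_contra hnt
    rw [not_nontrivial_iff_subsingleton] at hnt
    exact hnn inferInstance
  -- quotients
  have hquo : ∀ N : Subgroup G, ∀ _ : N.Normal, (∀ m ∈ N, α m ∈ N) → N ≠ ⊥ → Group.IsNilpotent (G ⧸ N) := by
    intro N hN hinv hb
    have h1 : Nat.card (G ⧸ N) < Nat.card G := by
      have h2 : 1 < Nat.card N := by
        rw [one_lt_card_iff_ne_bot]; exact hb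
      have h3 := card_eq_card_quotient_mul_card_subgroup N
      have h4 : 0 < Nat.card (G ⧸ N) := Nat.card_pos
      nlinarith
    have h2 := ih _ h1 (G ⧸ N) rfl _ (coprime_quoA hα N hinv) (hP.quo N hinv)
    rw [← map_cG_quoA, htop, map_top_of_surjective _ (QuotientGroup.mk'_surjective N)] at h2
    exact Group.nilpotent_of_surjective (topEquiv (G := G ⧸ N)).toMonoidHom topEquiv.surjective
  -- the centre is trivial
  have hz : center G = ⊥ := by
    by_contra hz
    refine hnn (Group.of_quotient_center_nilpotent (hquo _ inferInstance ?_ hz))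
    intro m hm
    rw [mem_center_iff]
    intro g
    have h1 := congrArg α (mem_center_iff.1 hm (α.symm g))
    rw [map_mul, map_mul, MulEquiv.apply_symm_apply] at h1
    exact h1
  -- commuting with all commutators
  have hcen : ∀ w : G, (∀ g : G, w * (g⁻¹ * α g) = (g⁻¹ * α g) * w) → w = 1 := by
    intro w hw
    have h1 : w ∈ center G := by
      rw [mem_center_iff]
      have h2 : cG α ≤ centralizer ({w} : Set G) := by
        unfold cG
        rw [closure_le]
        rintro _ ⟨g, rfl⟩
        exact mem_centralizer_singleton_iff.2 (hw g).symm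
      intro g
      exact mem_centralizer_singleton_iff.1 (h2 (by rw [htop]; trivial))
    rw [hz] at h1
    exact h1
  obtain ⟨l, V, hl, hVn, hVb, hVi, hVl, hVc, hVm⟩ := exists_min_inv hs α
  have hlf : Fact l.Prime := ⟨hl⟩
  -- the Sylow `l`-subgroup is normal and centralizes `V`
  let R : Sylow l G := default
  have hVR : V ≤ (R : Subgroup G) := by
    obtain ⟨R', hR'⟩ := hVl.exists_le_sylow
    obtain ⟨g, hg⟩ := MulAction.exists_smul_eq G R' R
    intro v hv
    have h1 : g⁻¹ * v * g⁻¹⁻¹ ∈ V := hVn.conj_mem v hv g⁻¹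
    rw [inv_inv] at h1
    rw [← hg, Sylow.coe_subgroup_smul, Subgroup.mem_pointwise_smul_iff_inv_smul_mem, ← map_inv]
    show g⁻¹ * v * g⁻¹⁻¹ ∈ _
    rw [inv_inv]
    exact hR' h1
  have hRn : (R : Subgroup G).Normal := by
    have h1 : Group.IsNilpotent (G ⧸ V) := hquo V hVn hVi hVb
    have h2 : ((R.mapSurjective (QuotientGroup.mk'_surjective V) : Sylow l (G ⧸ V)) : Subgroup (G ⧸ V)).Normal :=
      inferInstance
    have h3 : (R : Subgroup G) = ((R.mapSurjective (QuotientGroup.mk'_surjective V) : Sylow l (G ⧸ V)) :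
        Subgroup (G ⧸ V)).comap (QuotientGroup.mk' V) := by
      have h4 : ((R.mapSurjective (QuotientGroup.mk'_surjective V) : Sylow l (G ⧸ V)) : Subgroup (G ⧸ V)) =
        (R : Subgroup G).map (QuotientGroup.mk' V) := rfl
      rw [h4, comap_map_eq, QuotientGroup.ker_mk', sup_eq_left.2 hVR]
    rw [h3]
    exact h2.comap _
  have hRi : ∀ r ∈ (R : Subgroup G), α r ∈ (R : Subgroup G) := by
    have hch : (R : Subgroup G).Characteristic := Sylow.characteristic_of_normal R hRn
    intro r hr
    have h1 := characteristic_iff_map_eq.1 hch α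
    rw [← h1]
    exact mem_map_of_mem _ hr
  have hRV : ∀ r ∈ (R : Subgroup G), ∀ v ∈ V, r * v = v * r := by
    let W : Subgroup G := V ⊓ centralizer ((R : Subgroup G) : Set G)
    have hW : W = V := by
      apply hVm
      · exact inferInstance
      · -- a nontrivial normal subgroup of a `p`-group meets the centre
        intro hb
        have h1 : V.subgroupOf (R : Subgroup G) ≠ ⊥ := by
          rw [Ne, subgroupOf_eq_bot, disjoint_iff, inf_eq_left.2 hVR]
          exact hVb
        have h2 : Group.IsNilpotent (R : Subgroup G) := R.isPGroup'.isNilpotent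
        have h3 := Lib.NormalAbelian.normal_inf_center_ne_bot (V.subgroupOf (R : Subgroup G)) h1
        apply h3
        rw [eq_bot_iff]
        rintro x ⟨hx1, hx2⟩
        have h4 : (x : G) ∈ W := by
          refine ⟨mem_subgroupOf.1 hx1, ?_⟩
          show (x : G) ∈ centralizer ((R : Subgroup G) : Set G)
          rw [mem_centralizer_iff]
          intro r hr
          exact congrArg Subtype.val (mem_center_iff.1 hx2 ⟨r, hr⟩)
        have h5 : (x : G) ∈ (⊥ : Subgroup G) := by
          rw [← hb]
          exact h4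
        rw [mem_bot] at h5 ⊢
        exact Subtype.ext h5
      · rintro v ⟨hv, hvc⟩
        refine ⟨hVi v hv, ?_⟩
        have hvc' : v ∈ centralizer ((R : Subgroup G) : Set G) := hvc
        rw [mem_centralizer_iff] at hvc'
        show α v ∈ centralizer ((R : Subgroup G) : Set G)
        rw [mem_centralizer_iff]
        intro r hr
        have h1 := hvc' (α⁻¹ r) (symm_mem_of_inv hRi hr)
        have h2 := congrArg α h1
        rw [map_mul, map_mul, MulAut.apply_inv_self] at h2
        exact h2
      · exact inf_le_left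
    intro r hr v hv
    rw [← hW] at hv
    exact mem_centralizer_iff.1 hv.2 r hr
  -- commutators of `V` commute with all commutators
  have hkey : ∀ v ∈ V, α v = v := by
    intro v hv
    have hwV : v⁻¹ * α v ∈ V := mul_mem (inv_mem hv) (hVi v hv)
    have h1 : v⁻¹ * α v = 1 := by
      apply hcen
      intro g
      set y := g⁻¹ * α g with hy
      set w := v⁻¹ * α v with hw
      have hN := hP v g
      rw [← hy, ← hw] at hN
      let w' : closure ({w, y} : Set G) := ⟨w, Subgroup.subset_closure (by simp)⟩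
      let y' : closure ({w, y} : Set G) := ⟨y, Subgroup.subset_closure (by simp)⟩
      -- the order of `w` is a power of `l`
      obtain ⟨i, hi⟩ : ∃ i : ℕ, orderOf w = l ^ i := by
        obtain ⟨i, hi⟩ := hVl ⟨w, hwV⟩
        have h2 : w ^ l ^ i = 1 := congrArg Subtype.val hi
        obtain ⟨j, -, hj⟩ := (Nat.dvd_prime_pow hl).1 (orderOf_dvd_of_pow_eq_one h2)
        exact ⟨j, hj⟩
      set k := (orderOf y).factorization l with hk
      have hpos : 0 < orderOf y := orderOf_pos y
      have hord : (orderOf w').Coprime (orderOf (y' ^ l ^ k)) := by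
        have h2 : orderOf w' = l ^ i := by rw [← hi]; exact (Subgroup.orderOf_coe w').symm
        have h3 : orderOf (y' ^ l ^ k) = orderOf (y ^ l ^ k) := by
          rw [← Subgroup.orderOf_coe]; rfl
        rw [h2, h3]
        apply Nat.Coprime.pow_left
        rw [orderOf_pow_of_dvd (pow_ne_zero _ hl.ne_zero) (Nat.ordProj_dvd _ _)]
        exact Nat.coprime_ordCompl hl hpos.ne'
      have h2 := Lib.NilpotentCoprime.commute_of_coprime_orderOf hord
      have h3 : Commute w (y ^ l ^ k) := congrArg Subtype.val h2.eq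
      obtain ⟨b, r, hr, hyr⟩ := exists_pow_mod R hRn y k
      have h4 : Commute w r := (hRV r hr w hwV).symm
      have h5 : Commute w ((y ^ l ^ k) ^ b * r) := (h3.pow_right b).mul_right h4
      rw [← hyr] at h5
      exact h5.eq
    exact (inv_mul_eq_one.1 h1).symm
  apply hVb
  rw [eq_bot_iff]
  intro v hv
  rw [mem_bot]
  apply hcen
  intro g
  have h1 : α (g * v * g⁻¹) = g * v * g⁻¹ := hkey _ (hVn.conj_mem v hv g)
  rw [map_mul, map_mul, hkey v hv, map_inv] at h1
  calc v * (g⁻¹ * α g) = g⁻¹ * (g * v * g⁻¹) * α g := by group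
    _ = g⁻¹ * (α g * v * (α g)⁻¹) * α g := by rw [h1]
    _ = g⁻¹ * α g * v := by group

end Cfsg.Agent.H520
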