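import Mathlib
import Cfsg.Agent.H566.SporAlt
import Cfsg.Agent.H520.LieT

/-!
# Coprime automorphisms of the known simple groups (helper520)

`triv_of_known` : the known non-abelian simple groups have `Triv`.
-/

set_option autoImplicit false

namespace Cfsg.Agent.H520

open Cfsg Subgroup
open Cfsg.Agent.BpSpor.Inn (OddInn)
open Cfsg.Agent.H566 (eq_bot_of_oddInn oddInn_sporadic)

variable {K : Type*} [Group K] [Finite K]

theorem triv_of_oddInn (h : OddInn K) (h2 : 2 ∣ Nat.card K) : Triv K := by
  intro τ hτ _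
  have h1 : zpowers τ = ⊥ := eq_bot_of_oddInn h h2 (by rw [Nat.card_zpowers]; exact hτ.1)
  exact zpowers_eq_bot.1 h1

theorem triv_of_alt [IsSimpleGroup K] (hna : ¬ IsMulCommutative K) (h2 : 2 ∣ Nat.card K) (h3 : 3 ∣ Nat.card K)
    (h : IsAlternating K) : Triv K := by
  obtain ⟨n, hn, ⟨e⟩⟩ := h
  rcases Nat.lt_or_ge n 7 with h7 | h7
  · have hn' : n = 5 ∨ n = 6 := by omega
    rcases hn' with rfl | rfl
    · let i1 : Fintype (GaloisField 2 2) := Fintype.ofFinite _
      have hc : Fintype.card (GaloisField 2 2) = 4 := by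
        rw [← Nat.card_eq_fintype_card, GaloisField.card 2 2 (by norm_num)]; norm_num
      obtain ⟨f⟩ := Cfsg.Agent.S0252.result hc
      refine triv_of_lie hna h2 h3 Nat.prime_two (Or.inl ⟨GaloisField 2 2, inferInstance, inferInstance, inferInstance, 2,
        le_rfl, fun _ => (by rw [hc]; try norm_num), ⟨e.trans f.symm⟩⟩)
    · let i1 : Fintype (GaloisField 3 2) := Fintype.ofFinite _
      have hc : Fintype.card (GaloisField 3 2) = 9 := by
        rw [← Nat.card_eq_fintype_card, GaloisField.card 3 2 (by norm_num)]; norm_num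
      obtain ⟨f⟩ := Cfsg.Agent.S0254.result hc
      refine triv_of_lie hna h2 h3 Nat.prime_three (Or.inl ⟨GaloisField 3 2, inferInstance, inferInstance, inferInstance, 2,
        le_rfl, fun _ => (by rw [hc]; try norm_num), ⟨e.trans f.symm⟩⟩)
  · refine triv_of_oddInn ?_ h2
    exact OddInn.congr e fun p hp hp2 => Cfsg.Agent.CpAut.autInner_alt h7 hp hp2

/-- **The known simple groups.** -/
theorem triv_of_known [IsSimpleGroup K] (hna : ¬ ∀ a b : K, a * b = b * a) (h : IsKnownSimple' K) : Triv K := by
  have hna' : ¬ IsMulCommutative K := fun hc => hna fun a b => hc.is_comm.comm a b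
  have h2 : 2 ∣ Nat.card K := by
    by_contra h2
    exact hna (IsSimpleGroup.comm_iff_isSolvable.2
      (Cfsg.Agent.S0205.result (Nat.not_even_iff_odd.1 fun h3 => h2 (even_iff_two_dvd.1 h3))))
  by_cases h3 : 3 ∣ Nat.card K
  · rcases Cfsg.Agent.PreUniq.known_cases h with h | h | ⟨r, hr, h⟩ | h | h
    · exfalso
      have hf : Fact (Nat.card K).Prime := ⟨h⟩
      have hc : IsCyclic K := isCyclic_of_prime_card (p := Nat.card K) rfl
      obtain ⟨g, hg⟩ := hc.exists_generator
      exact hna fun a b => by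
        obtain ⟨i, rfl⟩ := hg a
        obtain ⟨j, rfl⟩ := hg b
        exact zpow_mul_comm g i j
    · exact triv_of_alt hna' h2 h3 h
    · exact triv_of_lie hna' h2 h3 hr h
    · exact triv_of_oddInn (Cfsg.Agent.BpSpor.Inn.tits h) h2
    · exact triv_of_oddInn (oddInn_sporadic h) h2
  · refine triv_of_three ?_ h3
    by_contra hcon
    push Not at hcon
    exact hna hcon

end Cfsg.Agent.H520
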