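import Mathlib
import Cfsg.Agent.H520.Simp
import Cfsg.Agent.S0000
import Cfsg.Agent.S0489

/-!
# Commutators `g⁻¹ α(g)` of a coprime automorphism: the solvable part (helper520)

`solv` : if all pairs of commutators `g⁻¹ α(g)` generate solvable groups then `[G, α]` is solvable.
-/

set_option autoImplicit false

namespace Cfsg.Agent.H520

open Subgroup Cfsg.Agent.H566

universe u

/-- images of solvable subgroups -/
theorem solv_map {G H : Type*} [Group G] [Group H] (f : G →* H) {S : Subgroup G} (h : Group.IsSolvable S) :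
    Group.IsSolvable (S.map f) :=
  Group.isSolvable_of_surjective (f := f.subgroupMap S) (f.subgroupMap_surjective S)

/-- injective images of solvable subgroups -/
theorem solv_of_map {G H : Type*} [Group G] [Group H] (f : G →* H) {S : Subgroup G}
    (hf : ∀ x ∈ S, f x = 1 → x = 1) (h : Group.IsSolvable (S.map f)) : Group.IsSolvable S := by
  refine Group.isSolvable_of_isSolvable_injective (f := f.subgroupMap S) ?_
  rw [injective_iff_map_eq_one]
  rintro ⟨x, hx⟩ h1
  exact Subtype.ext (hf x hx (congrArg Subtype.val h1))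

theorem map_pair {G H : Type*} [Group G] [Group H] (f : G →* H) (a b : G) :
    (closure ({a, b} : Set G)).map f = closure {f a, f b} := by
  rw [MonoidHom.map_closure, Set.image_pair]

theorem PP.res {G : Type*} [Group G] [Finite G] {α : MulAut G} (h : PP α) (M : Subgroup G) (hM : ∀ m ∈ M, α m ∈ M) :
    PP (resA α M hM) := by
  intro x y
  apply solv_of_map M.subtype (fun x _ h1 => Subtype.ext h1)
  rw [map_pair]
  exact h x y

theorem PP.quo {G : Type*} [Group G] [Finite G] {α : MulAut G} (h : PP α) (N : Subgroup G) [N.Normal]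
    (hN : ∀ m ∈ N, α m ∈ N) : PP (quoA α N hN) := by
  intro x y
  obtain ⟨x, rfl⟩ := QuotientGroup.mk'_surjective N x
  obtain ⟨y, rfl⟩ := QuotientGroup.mk'_surjective N y
  have h1 := solv_map (QuotientGroup.mk' N) (h x y)
  rw [map_pair] at h1
  exact h1

/-- **The solvable part.** -/
theorem solv {G : Type u} [Group G] [Finite G] (α : MulAut G) (hα : (orderOf α).Coprime (Nat.card G)) (hP : PP α) :
    Group.IsSolvable (cG α) := by
  refine red (fun G _ α => PP α) ?_ ?_ ?_ ?_ G α hα hP
  · intro G _ _ α M hM h
    exact h.res M hM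
  · intro G _ _ α N _ hN h
    exact h.quo N hN
  · intro G _ _ α T hT hm h
    obtain ⟨Q, _, f, hf, hf2⟩ := exists_proj α T hT hm
    have hs := hT.2.1
    have hsol : Group.IsSolvable T := by
      apply Cfsg.Agent.S0489.result
      intro a b
      apply solv_of_map (f.comp T.subtype) (fun x _ h1 => Subtype.ext (hf x x.2 h1))
      rw [map_pair]
      have h1 := solv_map f (h (a : G)⁻¹ (b : G)⁻¹)
      rw [map_pair, hf2 a a.2, hf2 b b.2] at h1
      exact h1
    apply hT.2.2
    intro a ha b hb
    have h2 := IsSimpleGroup.comm_iff_isSolvable.2 hsol ⟨a, ha⟩ ⟨b, hb⟩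
    exact congrArg Subtype.val h2
  · intro K _ _ _ hna α hα1 hco hM hP
    exact hα1 (triv_of_known hna Cfsg.Agent.S0000.result α ⟨hco, hM⟩ hP)

end Cfsg.Agent.H520
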